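import Groth.Agent.StableDescent.QuasiAffineHom
import Groth.Agent.FpqcDescent.Basic
import Groth.Agent.Weighting.Local
import Mathlib

/-!
# Separated quasi-finite descent data
-/

set_option autoImplicit false
set_option backward.isDefEq.respectTransparency false
set_option backward.isDefEq.respectTransparency.types false
set_option linter.style.haveILetI false
universe u
open CategoryTheory CategoryTheory.Limits AlgebraicGeometry

namespace Groth.Agent.StableDescent

theorem isQuasiAffine_of_lqf {V X : Scheme.{u}} (f : V ⟶ X) [IsSeparated f] [QuasiCompact f] [LocallyQuasiFinite f]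
    [LocallyOfFiniteType f] : Mor2.IsQuasiAffine f := by
  refine ⟨inferInstance, fun O hO => ?_⟩
  haveI : IsAffine O.toScheme := hO
  let h := f ∣_ O
  haveI : IsSeparated h := IsZariskiLocalAtTarget.restrict (P := @IsSeparated) ‹_› O
  haveI : QuasiCompact h := IsZariskiLocalAtTarget.restrict (P := @QuasiCompact) ‹_› O
  haveI : LocallyQuasiFinite h := IsZariskiLocalAtTarget.restrict (P := @LocallyQuasiFinite) ‹_› O
  haveI : LocallyOfFiniteType h := IsZariskiLocalAtTarget.restrict (P := @LocallyOfFiniteType) ‹_› O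
  haveI : CompactSpace (f ⁻¹ᵁ O).toScheme := QuasiCompact.compactSpace_of_compactSpace h
  haveI : IsAffine h.normalization := isAffine_of_isAffineHom h.fromNormalization
  exact Scheme.IsQuasiAffine.of_isImmersion h.toNormalization

theorem exists_iso_etale {X S : Scheme.{u}} (g : X ⟶ S) [Flat g] [Surjective g] [QuasiCompact g]
    (D : Desc.SchDD g) [QuasiCompact D.obj.hom] [IsSeparated D.obj.hom] [Etale D.obj.hom] :
    ∃ U : Over S, QuasiCompact U.hom ∧ IsSeparated U.hom ∧ Etale U.hom ∧ Nonempty ((Desc.toDD g).obj U ≅ D) := by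
  haveI := Groth.Agent.Weighting.locallyQuasiFinite_of_etale D.obj.hom
  obtain ⟨U, ⟨e⟩⟩ := exists_iso D fun v => exists_idx_of_quasiAffine D (isQuasiAffine_of_lqf D.obj.hom) v
  let eo : ((Desc.toDD g).obj U).obj ≅ D.obj :=
    ⟨e.hom.hom, e.inv.hom, congrArg Desc.SchDD.Hom.hom e.hom_inv_id, congrArg Desc.SchDD.Hom.hom e.inv_hom_id⟩
  have hfst : pullback.fst g U.hom = eo.hom.left ≫ D.obj.hom := (Over.w eo.hom).symm
  haveI : IsIso eo.hom.left := ((Over.forget _).mapIso eo).isIso_hom
  have hQ : (@Surjective ⊓ @Flat ⊓ @QuasiCompact : MorphismProperty Scheme.{u}) g :=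
    ⟨⟨inferInstance, inferInstance⟩, inferInstance⟩
  have := FpqcDescent.quasiCompact_descendsAlong.{u}
  have := FpqcDescent.isSeparated_descendsAlong.{u}
  have sq := IsPullback.of_hasPullback g U.hom
  refine ⟨U, ?_, ?_, ?_, ⟨e⟩⟩
  · exact MorphismProperty.of_isPullback_of_descendsAlong (P := @QuasiCompact) sq hQ (by
      rw [hfst, MorphismProperty.cancel_left_of_respectsIso @QuasiCompact]; assumption)
  · exact MorphismProperty.of_isPullback_of_descendsAlong (P := @IsSeparated) sq hQ (by
      rw [hfst, MorphismProperty.cancel_left_of_respectsIso @IsSeparated]; assumption)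
  · exact MorphismProperty.of_isPullback_of_descendsAlong (P := @Etale) sq hQ (by
      rw [hfst, MorphismProperty.cancel_left_of_respectsIso @Etale]; assumption)

theorem full_toDD {X S : Scheme.{u}} (p : X ⟶ S) [Surjective p] [Flat p] [QuasiCompact p] : (Desc.toDD p).Full := by
  refine ⟨fun {U U'} b => ?_⟩
  let π := pullback.snd p U.hom
  haveI : Surjective π := MorphismProperty.pullback_snd _ _ ‹_›
  haveI : Flat π := MorphismProperty.pullback_snd _ _ ‹_›
  haveI : QuasiCompact π := MorphismProperty.pullback_snd _ _ ‹_›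
  let B : pullback p U.hom ⟶ pullback p U'.hom := b.hom.left
  have hB : B ≫ pullback.fst p U'.hom = pullback.fst p U.hom := Over.w b.hom
  let h := B ≫ pullback.snd p U'.hom
  have hcond : ∀ {Z : Scheme.{u}} (a a' : Z ⟶ pullback p U.hom), a ≫ π = a' ≫ π → a ≫ h = a' ≫ h := by
    intro Z a a' e
    have hx : (a ≫ pullback.fst p U.hom) ≫ p = (a' ≫ pullback.fst p U.hom) ≫ p := by
      rw [Category.assoc, Category.assoc, pullback.condition, reassoc_of% e]
    let v : Desc.Lifts ((Desc.toDD p).obj U).obj (a ≫ pullback.fst p U.hom) := ⟨a, rfl⟩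
    let w : Desc.Lifts ((Desc.toDD p).obj U').obj (a ≫ pullback.fst p U.hom) :=
      ⟨a ≫ B, (Category.assoc _ _ _).trans (congrArg (a ≫ ·) hB)⟩
    have hv : (((Desc.toDD p).obj U).φ _ (a' ≫ pullback.fst p U.hom) hx v).1 = a' :=
      pullback.hom_ext (pullback.lift_fst _ _ _) ((pullback.lift_snd _ _ _).trans e)
    have hc : (((Desc.toDD p).obj U').φ _ (a' ≫ pullback.fst p U.hom) hx w).1 = a' ≫ B :=
      (b.comm _ _ hx v w rfl).trans (congrArg (· ≫ B) hv)
    have h2 := congrArg (· ≫ pullback.snd p U'.hom) hc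
    exact (Category.assoc _ _ _).symm.trans ((pullback.lift_snd _ _ _).symm.trans (h2.trans (Category.assoc _ _ _)))
  let m : U.left ⟶ U'.left := EffectiveEpi.desc π h hcond
  have hm : π ≫ m = h := EffectiveEpi.fac π h hcond
  have hm' : m ≫ U'.hom = U.hom := by
    rw [← cancel_epi π, reassoc_of% hm]
    show (B ≫ pullback.snd p U'.hom) ≫ U'.hom = pullback.snd p U.hom ≫ U.hom
    rw [Category.assoc, ← pullback.condition, reassoc_of% hB, pullback.condition]
  refine ⟨Over.homMk m hm', ?_⟩
  apply Desc.SchDD.hom_ext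
  apply Over.OverMorphism.ext
  show pullback.map p U.hom p U'.hom (𝟙 X) m (𝟙 S) (by rw [Category.comp_id, Category.id_comp]) (by rw [Category.comp_id]; exact hm'.symm) = B
  apply pullback.hom_ext
  · rw [pullback.lift_fst, hB, Category.comp_id]
  · rw [pullback.lift_snd]
    exact hm

end Groth.Agent.StableDescent
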