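import Groth.Prelude.Def_Desc
import Mathlib

/-!
# Gluing effective descent data along stable opens
-/

set_option autoImplicit false
set_option backward.isDefEq.respectTransparency false
set_option backward.isDefEq.respectTransparency.types false
set_option linter.style.haveILetI false
universe u
open CategoryTheory CategoryTheory.Limits AlgebraicGeometry

namespace Groth.Agent.StableDescent

variable {X S : Scheme.{u}} {g : X ⟶ S} [Flat g] [Surjective g] [QuasiCompact g] (D : Desc.SchDD g)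

/-- An open stable under the gluing bijections. -/
def Stable (W : D.obj.left.Opens) : Prop :=
  ∀ (T : Scheme.{u}) (x₀ x₁ : T ⟶ X) (hx : x₀ ≫ g = x₁ ≫ g) (v : Desc.Lifts D.obj x₀) (t : T),
    v.1 t ∈ W → (D.φ x₀ x₁ hx v).1 t ∈ W

/-- A quotient of an open. -/
structure Quot (W : D.obj.left.Opens) where
  /-- the quotient -/
  U : Scheme.{u}
  /-- structure map -/
  h : U ⟶ S
  /-- projection -/
  π : W.toScheme ⟶ U
  isPullback : IsPullback π (W.ι ≫ D.obj.hom) h g
  inv : ∀ {T : Scheme.{u}} (x₀ x₁ : T ⟶ X) (hx : x₀ ≫ g = x₁ ≫ g) (v : Desc.Lifts D.obj x₀)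
    (z z' : T ⟶ W.toScheme), z ≫ W.ι = v.1 → z' ≫ W.ι = (D.φ x₀ x₁ hx v).1 → z ≫ π = z' ≫ π

/-- The index type of stable opens with a quotient. -/
abbrev Idx := {W : D.obj.left.Opens // Stable D W ∧ Nonempty (Quot D W)}

/-- A chosen quotient. -/
noncomputable def quot (W : Idx D) : Quot D W.1 := Classical.choice W.2.2

instance flat_π (W : Idx D) : Flat (quot D W).π :=
  MorphismProperty.of_isPullback (P := @Flat) (quot D W).isPullback.flip ‹_›

instance surjective_π (W : Idx D) : Surjective (quot D W).π :=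
  MorphismProperty.of_isPullback (P := @Surjective) (quot D W).isPullback.flip ‹_›

instance quasiCompact_π (W : Idx D) : QuasiCompact (quot D W).π :=
  MorphismProperty.of_isPullback (P := @QuasiCompact) (quot D W).isPullback.flip ‹_›

theorem exists_eq_φ (W : Idx D) {T : Scheme.{u}} (a b : T ⟶ W.1.toScheme)
    (e : a ≫ (quot D W).π = b ≫ (quot D W).π) :
    ∃ hx, b ≫ W.1.ι = (D.φ ((a ≫ W.1.ι) ≫ D.obj.hom) ((b ≫ W.1.ι) ≫ D.obj.hom) hx ⟨a ≫ W.1.ι, rfl⟩).1 := by
  have hw := (quot D W).isPullback.w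
  have hx : ((a ≫ W.1.ι) ≫ D.obj.hom) ≫ g = ((b ≫ W.1.ι) ≫ D.obj.hom) ≫ g := by
    have := congrArg (· ≫ (quot D W).h) e
    simp only [Category.assoc, hw] at this
    simpa only [Category.assoc] using this
  refine ⟨hx, ?_⟩
  let v : Desc.Lifts D.obj ((a ≫ W.1.ι) ≫ D.obj.hom) := ⟨a ≫ W.1.ι, rfl⟩
  have hr : Set.range (D.φ _ ((b ≫ W.1.ι) ≫ D.obj.hom) hx v).1 ⊆ Set.range W.1.ι := by
    rintro _ ⟨t, rfl⟩
    rw [Scheme.Opens.range_ι]
    exact W.2.1 _ _ _ hx v t (a t).2
  let z := IsOpenImmersion.lift W.1.ι _ hr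
  have hz : z ≫ W.1.ι = (D.φ _ ((b ≫ W.1.ι) ≫ D.obj.hom) hx v).1 := IsOpenImmersion.lift_fac _ _ hr
  have hzb : z = b := by
    apply (quot D W).isPullback.hom_ext
    · exact ((quot D W).inv _ _ hx v a z rfl hz).symm.trans e
    · rw [← Category.assoc, hz, (D.φ _ _ hx v).2, Category.assoc]
  exact (congrArg (· ≫ W.1.ι) hzb.symm).trans hz

theorem trans_cond {W W' : Idx D} (h : W.1 ≤ W'.1) {Z : Scheme.{u}} (a b : Z ⟶ W.1.toScheme)
    (e : a ≫ (quot D W).π = b ≫ (quot D W).π) :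
    a ≫ D.obj.left.homOfLE h ≫ (quot D W').π = b ≫ D.obj.left.homOfLE h ≫ (quot D W').π := by
    obtain ⟨hx, hb⟩ := exists_eq_φ D W a b e
    rw [← Category.assoc, ← Category.assoc]
    refine (quot D W').inv _ _ hx ⟨a ≫ W.1.ι, rfl⟩ (a ≫ D.obj.left.homOfLE h) (b ≫ D.obj.left.homOfLE h) ?_ ?_
    · simp
    · simpa using hb

/-- Transition maps of quotients. -/
noncomputable def trans {W W' : Idx D} (h : W.1 ≤ W'.1) : (quot D W).U ⟶ (quot D W').U :=
  EffectiveEpi.desc (quot D W).π (D.obj.left.homOfLE h ≫ (quot D W').π) (trans_cond D h)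

@[reassoc]
theorem π_trans {W W' : Idx D} (h : W.1 ≤ W'.1) :
    (quot D W).π ≫ trans D h = D.obj.left.homOfLE h ≫ (quot D W').π :=
  EffectiveEpi.fac _ _ (trans_cond D h)

theorem trans_h {W W' : Idx D} (h : W.1 ≤ W'.1) : trans D h ≫ (quot D W').h = (quot D W).h := by
  rw [← cancel_epi (quot D W).π, π_trans_assoc, (quot D W').isPullback.w, (quot D W).isPullback.w]
  simp

theorem isPullback_trans {W W' : Idx D} (h : W.1 ≤ W'.1) :
    IsPullback (D.obj.left.homOfLE h) (quot D W).π (quot D W').π (trans D h) := by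
  refine IsPullback.of_right ?_ (π_trans D h).symm (quot D W').isPullback.flip
  rw [trans_h, Scheme.homOfLE_ι_assoc]
  exact (quot D W).isPullback.flip

instance isOpenImmersion_trans {W W' : Idx D} (h : W.1 ≤ W'.1) : IsOpenImmersion (trans D h) :=
  MorphismProperty.of_isPullback_of_descendsAlong (P := @IsOpenImmersion)
    (Q := @Surjective ⊓ @Flat ⊓ @QuasiCompact) (isPullback_trans D h)
    ⟨⟨inferInstance, inferInstance⟩, inferInstance⟩ inferInstance

/-- The diagram of quotients. -/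
noncomputable def diagram : Idx D ⥤ Scheme.{u} where
  obj W := (quot D W).U
  map f := trans D (leOfHom f)
  map_id W := by rw [← cancel_epi (quot D W).π, π_trans]; simp
  map_comp f f' := by
    rw [← cancel_epi (quot D _).π, π_trans, π_trans_assoc, π_trans]
    simp

instance isOpenImmersion_map {i j : Idx D} (f : i ⟶ j) : IsOpenImmersion ((diagram D).map f) :=
  isOpenImmersion_trans D _

theorem π_trans_apply {W W' : Idx D} (h : W.1 ≤ W'.1) (y : W.1.toScheme) :
    trans D h ((quot D W).π y) = (quot D W').π (D.obj.left.homOfLE h y) :=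
  congr($(π_trans D h) y)

theorem mem_of_π_eq (W : Idx D) (W' : D.obj.left.Opens) (hW' : Stable D W') (a b : W.1.toScheme)
    (h : (quot D W).π a = (quot D W).π b) (ha : a.1 ∈ W') : b.1 ∈ W' := by
  obtain ⟨t, rfl, rfl⟩ := Scheme.Pullback.exists_preimage_pullback a b h
  obtain ⟨hx, hb⟩ := exists_eq_φ D W (pullback.fst (quot D W).π (quot D W).π) (pullback.snd _ _) pullback.condition
  have := hW' _ _ _ hx ⟨pullback.fst (quot D W).π (quot D W).π ≫ W.1.ι, rfl⟩ t ha
  rw [← hb] at this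
  exact this

theorem nonempty_quot_of_le (W : Idx D) (W' : D.obj.left.Opens) (hW' : Stable D W') (hle : W' ≤ W.1) :
    Nonempty (Quot D W') := by
  let s : Set W.1.toScheme := W.1.ι ⁻¹' W'
  have hs : (quot D W).π ⁻¹' ((quot D W).π '' s) = s :=
    subset_antisymm (fun b ⟨a, ha, hab⟩ => mem_of_π_eq D W W' hW' a b hab ha) (Set.subset_preimage_image _ _)
  let O : (quot D W).U.Opens := ⟨(quot D W).π '' s, by
    rw [← (Flat.isQuotientMap_of_surjective (quot D W).π).isOpen_preimage, hs]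
    exact W'.2.preimage W.1.ι.continuous⟩
  let k := D.obj.left.homOfLE hle
  have hk : ∀ y : W'.toScheme, k y ∈ s := fun y => by
    show (k y).1 ∈ W'
    rw [Scheme.homOfLE_apply]
    exact y.2
  have hr : Set.range (k ≫ (quot D W).π) ⊆ Set.range O.ι := by
    rintro _ ⟨y, rfl⟩
    rw [Scheme.Opens.range_ι]
    exact ⟨k y, hk y, rfl⟩
  let π' := IsOpenImmersion.lift O.ι (k ≫ (quot D W).π) hr
  have hπ' : π' ≫ O.ι = k ≫ (quot D W).π := IsOpenImmersion.lift_fac _ _ hr
  have sq : IsPullback π' k O.ι (quot D W).π := by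
    refine IsOpenImmersion.isPullback π' k O.ι (quot D W).π hπ'.symm ?_
    ext b
    rw [Scheme.Opens.opensRange_ι]
    show b ∈ (quot D W).π ⁻¹' ((quot D W).π '' s) ↔ b ∈ Set.range k
    rw [hs]
    refine ⟨fun hb => ⟨⟨b.1, hb⟩, Subtype.ext (Scheme.homOfLE_apply _ _)⟩, ?_⟩
    rintro ⟨y, rfl⟩
    exact hk y
  refine ⟨⟨O.toScheme, O.ι ≫ (quot D W).h, π', ?_, fun x₀ x₁ hx v z z' hz hz' => ?_⟩⟩
  · have := sq.paste_vert (quot D W).isPullback
    rwa [Scheme.homOfLE_ι_assoc] at this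
  · rw [← cancel_mono O.ι, Category.assoc, Category.assoc, hπ', ← Category.assoc, ← Category.assoc]
    refine (quot D W).inv x₀ x₁ hx v (z ≫ k) (z' ≫ k) ?_ ?_
    · simpa [k] using hz
    · simpa [k] using hz'

/-- Intersection of two indices. -/
noncomputable def inter (W W' : Idx D) : Idx D :=
  ⟨W.1 ⊓ W'.1, fun T x₀ x₁ hx v t ht => ⟨W.2.1 T x₀ x₁ hx v t ht.1, W'.2.1 T x₀ x₁ hx v t ht.2⟩,
    nonempty_quot_of_le D W _ (fun T x₀ x₁ hx v t ht => ⟨W.2.1 T x₀ x₁ hx v t ht.1, W'.2.1 T x₀ x₁ hx v t ht.2⟩)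
      inf_le_left⟩

instance isLocallyDirected : ((diagram D) ⋙ Scheme.forget).IsLocallyDirected where
  cond {i j k} fi fj xi xj hxij := by
    obtain ⟨yi, hyi⟩ := (quot D i).π.surjective xi
    obtain ⟨yj, hyj⟩ := (quot D j).π.surjective xj
    subst hyi hyj
    have h1 : trans D (leOfHom fi) ((quot D i).π yi) = trans D (leOfHom fj) ((quot D j).π yj) := hxij
    rw [π_trans_apply, π_trans_apply] at h1
    have hj : yi.1 ∈ j.1 := by
      have := mem_of_π_eq D k j.1 j.2.1 _ (D.obj.left.homOfLE (leOfHom fi) yi) h1.symm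
        (by rw [Scheme.homOfLE_apply]; exact yj.2)
      rwa [Scheme.homOfLE_apply] at this
    refine ⟨inter D i j, homOfLE (show inter D i j ≤ i from (inf_le_left : i.1 ⊓ j.1 ≤ i.1)), homOfLE (show inter D i j ≤ j from (inf_le_right : i.1 ⊓ j.1 ≤ j.1)),
      (quot D (inter D i j)).π ⟨yi.1, yi.2, hj⟩, ?_, ?_⟩
    · exact (π_trans_apply D _ _).trans (congrArg _ (Subtype.ext (Scheme.homOfLE_apply _ _)))
    · apply (trans D (leOfHom fj)).injective
      refine (congrArg (trans D (leOfHom fj)) (π_trans_apply D _ _)).trans ?_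
      rw [π_trans_apply, π_trans_apply, ← h1]
      exact congrArg _ (Subtype.ext (by simp [Scheme.homOfLE_apply]))

/-- The glued quotient. -/
noncomputable def total : Scheme.{u} := colimit (diagram D)

/-- Its structure map. -/
noncomputable def totalHom : total D ⟶ S :=
  colimit.desc (diagram D) ⟨S, { app := fun W => (quot D W).h
                                 naturality := fun W W' f => (trans_h D (leOfHom f)).trans (Category.comp_id _).symm }⟩

/-- Inclusion of a quotient. -/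
noncomputable def incl (W : Idx D) : (quot D W).U ⟶ total D := colimit.ι (diagram D) W

instance isOpenImmersion_incl (W : Idx D) : IsOpenImmersion (incl D W) :=
  inferInstanceAs (IsOpenImmersion (colimit.ι (diagram D) W))

@[reassoc]
theorem incl_totalHom (W : Idx D) : incl D W ≫ totalHom D = (quot D W).h := colimit.ι_desc _ _

@[reassoc]
theorem trans_incl {W W' : Idx D} (h : W.1 ≤ W'.1) : trans D h ≫ incl D W' = incl D W :=
  colimit.w (diagram D) (homOfLE (show W ≤ W' from h))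

variable (hc : ∀ x : D.obj.left, ∃ W : Idx D, x ∈ W.1)

/-- The cover by stable opens. -/
noncomputable def idxCover : D.obj.left.OpenCover where
  I₀ := Idx D
  X W := W.1
  f W := W.1.ι
  mem₀ := by
    rw [Scheme.presieve₀_mem_precoverage_iff]
    refine ⟨fun x => ?_, inferInstance⟩
    obtain ⟨W, hW⟩ := hc x
    exact ⟨W, ⟨x, hW⟩, rfl⟩

theorem π_incl_eq {W l : Idx D} (hl : l.1 ≤ W.1) {T : Scheme.{u}} (q : T ⟶ l.1.toScheme)
    (p : T ⟶ W.1.toScheme) (h : q ≫ l.1.ι = p ≫ W.1.ι) :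
    p ≫ (quot D W).π ≫ incl D W = q ≫ (quot D l).π ≫ incl D l := by
  have hp : p = q ≫ D.obj.left.homOfLE hl := by
    rw [← cancel_mono W.1.ι, Category.assoc, Scheme.homOfLE_ι, h]
  rw [hp, Category.assoc, ← π_trans_assoc, trans_incl]

/-- The projection. -/
noncomputable def proj : D.obj.left ⟶ total D :=
  (idxCover D hc).glueMorphisms (fun W => (quot D W).π ≫ incl D W) fun W W' => by
    let p : pullback W.1.ι W'.1.ι ⟶ D.obj.left := pullback.fst _ _ ≫ W.1.ι
    have hp : ∀ x, p x ∈ (inter D W W').1 := fun x => ⟨(pullback.fst W.1.ι W'.1.ι x).2, by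
      show (pullback.fst W.1.ι W'.1.ι ≫ W.1.ι) x ∈ W'.1
      rw [pullback.condition]
      exact (pullback.snd W.1.ι W'.1.ι x).2⟩
    let q := IsOpenImmersion.lift (inter D W W').1.ι p (by
      rintro _ ⟨x, rfl⟩
      rw [Scheme.Opens.range_ι]
      exact hp x)
    have hq : q ≫ (inter D W W').1.ι = p := IsOpenImmersion.lift_fac _ _ _
    have e1 := π_incl_eq D (inf_le_left : (inter D W W').1 ≤ W.1) q (pullback.fst W.1.ι W'.1.ι) hq
    have e2 := π_incl_eq D (inf_le_right : (inter D W W').1 ≤ W'.1) q (pullback.snd W.1.ι W'.1.ι)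
      (hq.trans pullback.condition)
    exact e1.trans e2.symm

@[reassoc]
theorem ι_proj (W : Idx D) : W.1.ι ≫ proj D hc = (quot D W).π ≫ incl D W :=
  (idxCover D hc).ι_glueMorphisms _ _ W

theorem proj_totalHom : proj D hc ≫ totalHom D = D.obj.hom ≫ g := by
  apply Scheme.Cover.hom_ext (idxCover D hc)
  intro W
  show W.1.ι ≫ _ = W.1.ι ≫ _
  rw [ι_proj_assoc, incl_totalHom, (quot D W).isPullback.w, Category.assoc]

theorem proj_apply (W : Idx D) (y : W.1.toScheme) : proj D hc y.1 = incl D W ((quot D W).π y) :=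
  congr($(ι_proj D hc W) y)

theorem mem_of_proj (W : Idx D) (y : D.obj.left) (u : (quot D W).U) (h : proj D hc y = incl D W u) : y ∈ W.1 := by
  obtain ⟨W', hy⟩ := hc y
  obtain ⟨l, fi, fj, z, hzi, hzj⟩ := (Scheme.IsLocallyDirected.ι_eq_ι_iff (diagram D)).mp
    ((proj_apply D hc W' ⟨y, hy⟩).symm.trans h)
  obtain ⟨c, rfl⟩ := (quot D l).π.surjective z
  have e : (quot D W').π (D.obj.left.homOfLE (leOfHom fi) c) = (quot D W').π ⟨y, hy⟩ :=
    (π_trans_apply D (leOfHom fi) c).symm.trans hzi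
  exact mem_of_π_eq D W' W.1 W.2.1 _ _ e (by rw [Scheme.homOfLE_apply]; exact leOfHom fj c.2)

theorem φ_proj {T : Scheme.{u}} (x₀ x₁ : T ⟶ X) (hx : x₀ ≫ g = x₁ ≫ g) (v : Desc.Lifts D.obj x₀) :
    (D.φ x₀ x₁ hx v).1 ≫ proj D hc = v.1 ≫ proj D hc := by
  apply Scheme.hom_ext_of_forall
  intro t
  obtain ⟨W, hW⟩ := hc (v.1 t)
  let U := v.1 ⁻¹ᵁ W.1
  refine ⟨U, hW, ?_⟩
  have hx' : (U.ι ≫ x₀) ≫ g = (U.ι ≫ x₁) ≫ g := by rw [Category.assoc, Category.assoc, hx]
  let v' : Desc.Lifts D.obj (U.ι ≫ x₀) := ⟨U.ι ≫ v.1, by rw [Category.assoc, v.2]⟩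
  have hφ := D.φ_natural U.ι x₀ x₁ hx hx' v v' rfl
  have hr : Set.range (D.φ _ _ hx' v').1 ⊆ Set.range W.1.ι := by
    rintro _ ⟨s, rfl⟩
    rw [Scheme.Opens.range_ι]
    exact W.2.1 _ _ _ hx' v' s s.2
  let z' := IsOpenImmersion.lift W.1.ι _ hr
  have hz' : z' ≫ W.1.ι = (D.φ _ _ hx' v').1 := IsOpenImmersion.lift_fac _ _ hr
  have hz : (v.1 ∣_ W.1) ≫ W.1.ι = v'.1 := morphismRestrict_ι v.1 W.1
  have hi := (quot D W).inv _ _ hx' v' _ z' hz hz'
  calc U.ι ≫ (D.φ x₀ x₁ hx v).1 ≫ proj D hc = (z' ≫ W.1.ι) ≫ proj D hc := by rw [hz', hφ, Category.assoc]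
    _ = (z' ≫ (quot D W).π) ≫ incl D W := by simp only [Category.assoc, ι_proj]
    _ = ((v.1 ∣_ W.1) ≫ (quot D W).π) ≫ incl D W := by rw [hi]
    _ = ((v.1 ∣_ W.1) ≫ W.1.ι) ≫ proj D hc := by simp only [Category.assoc, ι_proj]
    _ = U.ι ≫ v.1 ≫ proj D hc := by rw [hz]; exact Category.assoc _ _ _

/-- The comparison map to the base change of the glued quotient. -/
noncomputable def comparison : D.obj.left ⟶ pullback g (totalHom D) :=
  pullback.lift D.obj.hom (proj D hc) (proj_totalHom D hc).symm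

theorem comparison_snd : comparison D hc ≫ pullback.snd g (totalHom D) = proj D hc := pullback.lift_snd _ _ _

theorem comparison_fst : comparison D hc ≫ pullback.fst g (totalHom D) = D.obj.hom := pullback.lift_fst _ _ _

theorem isPullback_ι_comparison (W : Idx D) :
    IsPullback (quot D W).π (W.1.ι ≫ comparison D hc) (incl D W) (pullback.snd g (totalHom D)) := by
  refine IsPullback.of_bot ?_ ?_ (IsPullback.of_hasPullback g (totalHom D)).flip
  · rw [Category.assoc, comparison_fst, incl_totalHom]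
    exact (quot D W).isPullback
  · rw [Category.assoc, comparison_snd, ι_proj]

theorem isIso_comparison : IsIso (comparison D hc) := by
  have hcomp : ∀ x, pullback.snd g (totalHom D) (comparison D hc x) = proj D hc x := fun x =>
    congr($(comparison_snd D hc) x)
  have hW : ∀ W : Idx D, IsOpenImmersion (W.1.ι ≫ comparison D hc) := fun W =>
    MorphismProperty.of_isPullback (P := @IsOpenImmersion) (isPullback_ι_comparison D hc W) inferInstance
  haveI : IsOpenImmersion (comparison D hc) := by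
    refine IsOpenImmersion.of_openCover_source _ (idxCover D hc) (fun x y h => ?_) hW
    obtain ⟨W, hx⟩ := hc x
    have hy : y ∈ W.1 := mem_of_proj D hc W y _
      (((hcomp y).symm.trans (congrArg _ h.symm)).trans ((hcomp x).trans (proj_apply D hc W ⟨x, hx⟩)))
    exact congrArg Subtype.val ((hW W).base_open.injective (a₁ := ⟨x, hx⟩) (a₂ := ⟨y, hy⟩) h)
  rw [isIso_iff_isOpenImmersion_and_surjective]
  refine ⟨inferInstance, ⟨fun p => ?_⟩⟩
  obtain ⟨W, u, hu⟩ := Scheme.IsLocallyDirected.ι_jointly_surjective (diagram D) (pullback.snd g (totalHom D) p)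
  have := (Scheme.image_preimage_eq_of_isPullback (isPullback_ι_comparison D hc W) Set.univ).ge
    (show p ∈ (pullback.snd g (totalHom D)).base ⁻¹' ((incl D W).base '' Set.univ) from ⟨u, trivial, hu⟩)
  obtain ⟨y, -, hy⟩ := this
  exact ⟨y.1, hy⟩

include hc in
theorem exists_iso : ∃ U : Over S, Nonempty ((Desc.toDD g).obj U ≅ D) := by
  refine ⟨Over.mk (totalHom D), ⟨Iso.symm ?_⟩⟩
  let e : D.obj ≅ (Desc.canonicalDD g (Over.mk (totalHom D))).obj :=
    Over.isoMk (@asIso _ _ _ _ (comparison D hc) (isIso_comparison D hc)) (comparison_fst D hc)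
  let f : D ⟶ (Desc.toDD g).obj (Over.mk (totalHom D)) :=
    ⟨e.hom, fun T x₀ x₁ hx v w hw => by
      apply pullback.hom_ext
      · refine (pullback.lift_fst _ _ _).trans ?_
        rw [Category.assoc]
        exact ((D.φ x₀ x₁ hx v).2).symm.trans (congrArg _ (comparison_fst D hc).symm)
      · refine (pullback.lift_snd _ _ _).trans ?_
        rw [Category.assoc]
        show w.1 ≫ pullback.snd g (totalHom D) = (D.φ x₀ x₁ hx v).1 ≫ comparison D hc ≫ pullback.snd g (totalHom D)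
        rw [comparison_snd, φ_proj, hw, Category.assoc]
        exact congrArg _ (comparison_snd D hc)⟩
  refine ⟨f, ⟨e.inv, fun T x₀ x₁ hx v w hw => ?_⟩, Desc.SchDD.hom_ext ?_, Desc.SchDD.hom_ext ?_⟩
  · have h := f.comm x₀ x₁ hx w v
      ((congrArg (· ≫ e.hom.left) hw).trans ((Category.assoc _ _ _).trans
        ((congrArg (fun k => v.1 ≫ k.left) e.inv_hom_id).trans (Category.comp_id _)))).symm
    exact ((congrArg (· ≫ e.inv.left) h).trans ((Category.assoc _ _ _).trans
        ((congrArg (fun k => (D.φ x₀ x₁ hx w).1 ≫ k.left) e.hom_inv_id).trans (Category.comp_id _)))).symm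
  · exact e.hom_inv_id
  · exact e.inv_hom_id

theorem exists_idx_of_hom {U' : Over S} (k : (Desc.toDD g).obj U' ⟶ D) [IsOpenImmersion k.hom.left] :
    ∃ W : Idx D, W.1 = k.hom.left.opensRange := by
  let K : pullback g U'.hom ⟶ D.obj.left := k.hom.left
  haveI : IsOpenImmersion K := ‹_›
  let W := K.opensRange
  let q := K.isoOpensRange.inv
  have hq : q ≫ K = W.ι := K.isoOpensRange_inv_comp
  have hK : K ≫ D.obj.hom = pullback.fst g U'.hom := Over.w k.hom
  refine ⟨⟨W, fun T x₀ x₁ hx v t ht => ?_, ⟨⟨U'.left, U'.hom, q ≫ pullback.snd g U'.hom, ?_,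
    fun x₀ x₁ hx v z z' hz hz' => ?_⟩⟩⟩, rfl⟩
  · let O := v.1 ⁻¹ᵁ W
    have hx' : (O.ι ≫ x₀) ≫ g = (O.ι ≫ x₁) ≫ g := by rw [Category.assoc, Category.assoc, hx]
    let v' : Desc.Lifts D.obj (O.ι ≫ x₀) := ⟨O.ι ≫ v.1, by rw [Category.assoc, v.2]⟩
    have hr : ((v.1 ∣_ W) ≫ q) ≫ K = v'.1 := by
      rw [Category.assoc, hq]
      exact morphismRestrict_ι _ _
    let w : Desc.Lifts ((Desc.toDD g).obj U').obj (O.ι ≫ x₀) := ⟨(v.1 ∣_ W) ≫ q, by
      show ((v.1 ∣_ W) ≫ q) ≫ pullback.fst g U'.hom = _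
      rw [← hK, ← Category.assoc, hr]
      exact v'.2⟩
    have h1 := k.comm _ _ hx' w v' hr.symm
    have h2 := D.φ_natural O.ι x₀ x₁ hx hx' v v' rfl
    have h3 := congr($(h1.symm.trans h2) ⟨t, ht⟩)
    exact ⟨_, h3⟩
  · refine IsPullback.of_iso (IsPullback.of_hasPullback g U'.hom).flip K.isoOpensRange (Iso.refl _) (Iso.refl _)
      (Iso.refl _) ?_ ?_ ?_ ?_
    · simp [q]
    · show pullback.fst g U'.hom ≫ 𝟙 _ = K.isoOpensRange.hom ≫ W.ι ≫ D.obj.hom
      rw [Category.comp_id, ← hq, Category.assoc, hK, K.isoOpensRange.hom_inv_id_assoc]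
    · simp
    · simp
  · let w : Desc.Lifts ((Desc.toDD g).obj U').obj x₀ := ⟨z ≫ q, by
      show (z ≫ q) ≫ pullback.fst g U'.hom = _
      rw [← hK, Category.assoc, reassoc_of% hq, reassoc_of% hz, v.2]⟩
    have hv : v.1 = w.1 ≫ K := by
      show v.1 = (z ≫ q) ≫ K
      rw [Category.assoc, hq, hz]
    have h1 := k.comm x₀ x₁ hx w v hv
    have h2 : z' ≫ q = (((Desc.toDD g).obj U').φ x₀ x₁ hx w).1 := by
      rw [← cancel_mono K, Category.assoc, hq, hz']
      exact h1
    rw [← Category.assoc, ← Category.assoc, h2]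
    exact (pullback.lift_snd _ _ _).symm

end Groth.Agent.StableDescent
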