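import Groth.Agent.StableDescent.Affine
import Groth.Agent.StableDescent.Glue
import Groth.Prelude.Def_DescFam

/-!
# Effectivity of affine descent data
-/

set_option autoImplicit false
set_option backward.isDefEq.respectTransparency false
set_option backward.isDefEq.respectTransparency.types false
set_option linter.style.haveILetI false
universe u
open CategoryTheory CategoryTheory.Limits AlgebraicGeometry

namespace Groth.Agent.StableDescent

variable {X X' S : Scheme.{u}} {p : X ⟶ S} (D : Desc.SchDD p) (c : X' ⟶ X)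

theorem compat {T : Scheme.{u}} {x₀ x₁ : T ⟶ X'} (h : x₀ ≫ c ≫ p = x₁ ≫ c ≫ p) :
    (x₀ ≫ c) ≫ p = (x₁ ≫ c) ≫ p := by
  simpa only [Category.assoc] using h

/-- Pullback of a descent datum along a morphism. -/
noncomputable def pullDD : Desc.SchDD (c ≫ p) where
  obj := Over.mk (pullback.snd D.obj.hom c)
  φ T x₀ x₁ h := (Desc.liftsPullbackEquiv D.obj c x₀).trans
    ((D.φ (x₀ ≫ c) (x₁ ≫ c) (compat c h)).trans (Desc.liftsPullbackEquiv D.obj c x₁).symm)
  φ_natural T T' t x₀ x₁ h h' v v' hv' := by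
    apply pullback.hom_ext
    · simp only [Equiv.trans_apply, Desc.liftsPullbackEquiv, Equiv.coe_fn_mk, Equiv.coe_fn_symm_mk,
        pullback.lift_fst, Category.assoc]
      exact RadDescent.φ_nat D t (x₀ ≫ c) (x₁ ≫ c) (compat c h) ((t ≫ x₀) ≫ c) ((t ≫ x₁) ≫ c)
        (Category.assoc _ _ _).symm (Category.assoc _ _ _).symm (compat c h') _ _ (by simp [hv'])
    · simp [Desc.liftsPullbackEquiv]
  φ_self T x v := by
    simp only [Equiv.trans_apply, D.φ_self, Equiv.symm_apply_apply]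
  φ_comp T x₀ x₁ x₂ h₀₁ h₁₂ v := by
    simp only [Equiv.trans_apply, Equiv.apply_symm_apply, D.φ_comp]

theorem φ_val_of_eq {T : Scheme.{u}} (x₀ x₁ : T ⟶ X) (e : x₀ = x₁) (h : x₀ ≫ p = x₁ ≫ p)
    (v : Desc.Lifts D.obj x₀) : (D.φ x₀ x₁ h v).1 = v.1 := by
  subst e
  exact congrArg Subtype.val (D.φ_self _ v)

variable [Surjective p] [Flat p] [QuasiCompact p] [IsAffineHom D.obj.hom]

theorem exists_idx_of_affineHom (x : D.obj.left) : ∃ W : Idx D, x ∈ W.1 := by
  obtain ⟨S₀, hS₀, hx₀, -⟩ := exists_isAffineOpen_mem_and_subset (x := p (D.obj.hom x)) (U := ⊤) trivial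
  let X₀ := p ⁻¹ᵁ S₀
  let W := D.obj.hom ⁻¹ᵁ X₀
  have hst : Stable D W := fun T x₀ x₁ hx v t ht => by
    show p (D.obj.hom ((D.φ x₀ x₁ hx v).1 t)) ∈ S₀
    rw [← Scheme.Hom.comp_apply _ D.obj.hom, (D.φ x₀ x₁ hx v).2, ← Scheme.Hom.comp_apply, ← hx]
    show (x₀ ≫ p) t ∈ S₀
    rw [← v.2]
    exact ht
  refine ⟨⟨W, hst, ?_⟩, hx₀⟩
  haveI : CompactSpace X₀.toScheme := isCompact_iff_compactSpace.mp (p.isCompact_preimage hS₀.isCompact)
  let 𝒰 := X₀.toScheme.affineCover.finiteSubcover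
  haveI : ∀ i, IsAffine (𝒰.X i) := fun i => inferInstance
  let c₁ : (∐ 𝒰.X) ⟶ X₀.toScheme := Limits.Sigma.desc 𝒰.f
  haveI : IsLocalIso c₁ := by
    refine IsZariskiLocalAtSource.of_openCover (P := @IsLocalIso) (sigmaOpenCover 𝒰.X) fun i => ?_
    show IsLocalIso (Limits.Sigma.ι 𝒰.X i ≫ Limits.Sigma.desc 𝒰.f)
    rw [Limits.Sigma.ι_desc]
    exact IsZariskiLocalAtSource.of_isOpenImmersion _
  haveI : Flat c₁ := IsZariskiLocalAtSource.of_openCover (P := @Flat) (sigmaOpenCover 𝒰.X) fun i => by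
    show Flat (Limits.Sigma.ι 𝒰.X i ≫ Limits.Sigma.desc 𝒰.f)
    rw [Limits.Sigma.ι_desc]
    infer_instance
  haveI : LocallyOfFinitePresentation c₁ :=
    IsZariskiLocalAtSource.of_openCover (P := @LocallyOfFinitePresentation) (sigmaOpenCover 𝒰.X) fun i => by
    show LocallyOfFinitePresentation (Limits.Sigma.ι 𝒰.X i ≫ Limits.Sigma.desc 𝒰.f)
    rw [Limits.Sigma.ι_desc]
    infer_instance
  haveI : Surjective c₁ := ⟨fun y => by
    obtain ⟨i, z, hz⟩ := 𝒰.exists_eq y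
    exact ⟨Limits.Sigma.ι 𝒰.X i z, (congr($(Limits.Sigma.ι_desc 𝒰.f i) z)).trans hz⟩⟩
  haveI : IsAffine (∐ 𝒰.X) := inferInstance
  let c' := c₁ ≫ X₀.ι
  haveI : Flat c' := inferInstanceAs (Flat (c₁ ≫ X₀.ι))
  haveI : LocallyOfFinitePresentation c' := inferInstanceAs (LocallyOfFinitePresentation (c₁ ≫ X₀.ι))
  haveI : Flat (c' ≫ p) := inferInstance
  let D' := pullDD D c'
  haveI : IsAffineHom D'.obj.hom := MorphismProperty.pullback_snd (P := @IsAffineHom) _ _ ‹_›
  haveI : IsAffine D'.obj.left := isAffine_of_isAffineHom D'.obj.hom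
  have htop : (c' ≫ p) ⁻¹ᵁ S₀ = ⊤ := by
    exact top_unique fun y _ => (c₁ y).2
  obtain ⟨U, h, π₁, hh, sq₁, inv₁⟩ := exists_quotient D' S₀ hS₀ (by rw [htop]; exact isAffineOpen_top _) ⊤
    (isAffineOpen_top _) (fun y _ => by
      show D'.obj.hom y ∈ (c' ≫ p) ⁻¹ᵁ S₀
      rw [htop]
      trivial) (fun _ _ _ _ _ _ _ => trivial)
  let V' := pullback D.obj.hom c'
  let s : V' ⟶ ∐ 𝒰.X := pullback.snd D.obj.hom c'
  let π' : V' ⟶ U := D'.obj.left.topIso.inv ≫ π₁
  have sq' : IsPullback π' s h (c' ≫ p) := by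
    refine IsPullback.of_iso sq₁ D'.obj.left.topIso (Iso.refl _) (Iso.refl _) (Iso.refl _) ?_ ?_ ?_ ?_
    · exact (Category.comp_id _).trans (D'.obj.left.topIso.hom_inv_id_assoc π₁).symm
    · show ((⊤ : D'.obj.left.Opens).ι ≫ D'.obj.hom) ≫ 𝟙 _ = _
      exact Category.comp_id _
    · simp
    · simp
  let F : V' ⟶ D.obj.left := pullback.fst D.obj.hom c'
  have hF : Set.range F ⊆ Set.range W.ι := by
    rintro _ ⟨y, rfl⟩
    rw [Scheme.Opens.range_ι]
    show D.obj.hom (F y) ∈ X₀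
    rw [← Scheme.Hom.comp_apply, pullback.condition]
    exact (c₁ (s y)).2
  let r : V' ⟶ W.toScheme := IsOpenImmersion.lift W.ι F hF
  have hr : r ≫ W.ι = F := IsOpenImmersion.lift_fac _ _ hF
  have sqr : IsPullback r s (D.obj.hom ∣_ X₀) c₁ := by
    refine IsPullback.of_right ?_ ?_ (isPullback_morphismRestrict D.obj.hom X₀).flip
    · rw [hr]
      exact IsPullback.of_hasPullback _ _
    · rw [← cancel_mono X₀.ι, Category.assoc, morphismRestrict_ι, reassoc_of% hr, Category.assoc]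
      exact pullback.condition
  haveI : Flat r := MorphismProperty.of_isPullback (P := @Flat) sqr.flip ‹_›
  haveI : Surjective r := MorphismProperty.of_isPullback (P := @Surjective) sqr.flip ‹_›
  haveI : LocallyOfFinitePresentation r :=
    MorphismProperty.of_isPullback (P := @LocallyOfFinitePresentation) sqr.flip ‹_›
  have hcond : ∀ {Z : Scheme.{u}} (a b : Z ⟶ V'), a ≫ r = b ≫ r → a ≫ π' = b ≫ π' := by
    intro Z a b e
    have eF : a ≫ F = b ≫ F := by rw [← hr, reassoc_of% e]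
    have ec : (a ≫ s) ≫ c' = (b ≫ s) ≫ c' := by
      rw [Category.assoc, Category.assoc, ← pullback.condition, ← Category.assoc, eF, Category.assoc]
    have hx : (a ≫ s) ≫ c' ≫ p = (b ≫ s) ≫ c' ≫ p := by
      simpa only [Category.assoc] using congrArg (· ≫ p) ec
    show a ≫ D'.obj.left.topIso.inv ≫ π₁ = b ≫ D'.obj.left.topIso.inv ≫ π₁
    rw [← Category.assoc, ← Category.assoc]
    refine inv₁ (a ≫ s) (b ≫ s) hx ⟨a, rfl⟩ _ _ ?_ ?_
    · exact (Category.assoc _ _ _).trans ((congrArg (a ≫ ·) D'.obj.left.topIso.inv_hom_id).trans (Category.comp_id _))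
    · refine ((Category.assoc _ _ _).trans ((congrArg (b ≫ ·) D'.obj.left.topIso.inv_hom_id).trans (Category.comp_id _))).trans ?_
      apply pullback.hom_ext
      · refine Eq.trans ?_ (pullback.lift_fst _ _ _).symm
        refine Eq.trans ?_ (φ_val_of_eq D _ _ ec _ _).symm
        exact eF.symm
      · exact (pullback.lift_snd _ _ _).symm
  let π : W.toScheme ⟶ U := EffectiveEpi.desc r π' hcond
  have hπ : r ≫ π = π' := EffectiveEpi.fac r π' hcond
  have hw : π ≫ h = (W.ι ≫ D.obj.hom) ≫ p := by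
    rw [← cancel_epi r, reassoc_of% hπ, sq'.w]
    simp only [Category.assoc, reassoc_of% hr]
    rw [← reassoc_of% (pullback.condition : F ≫ D.obj.hom = s ≫ c')]
  let P := pullback h p
  let e : W.toScheme ⟶ P := pullback.lift π (W.ι ≫ D.obj.hom) hw
  have hFD : s ≫ c' ≫ p = π' ≫ h := sq'.w.symm
  let f : V' ⟶ P := pullback.lift π' (s ≫ c') (hFD.symm.trans (Category.assoc _ _ _).symm)
  have sqf : IsPullback f s (pullback.snd h p) c' := by
    refine IsPullback.of_right ?_ (pullback.lift_snd _ _ _) (IsPullback.of_hasPullback h p)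
    rw [pullback.lift_fst]
    exact sq'
  haveI : Flat f := MorphismProperty.of_isPullback (P := @Flat) sqf.flip ‹_›
  haveI : LocallyOfFinitePresentation f :=
    MorphismProperty.of_isPullback (P := @LocallyOfFinitePresentation) sqf.flip ‹_›
  haveI : Surjective f := ⟨fun w => by
    have hw' : pullback.snd h p w ∈ Set.range c' := by
      have : p (pullback.snd h p w) ∈ S₀ := by
        rw [← Scheme.Hom.comp_apply, ← pullback.condition]
        exact hh ⟨pullback.fst h p w, rfl⟩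
      obtain ⟨y, hy⟩ := c₁.surjective ⟨pullback.snd h p w, this⟩
      exact ⟨y, congrArg Subtype.val hy⟩
    obtain ⟨y, hy⟩ := hw'
    obtain ⟨v, -, hv⟩ := (Scheme.image_preimage_eq_of_isPullback sqf.flip Set.univ).ge
      (show w ∈ (pullback.snd h p).base ⁻¹' (c'.base '' Set.univ) from ⟨y, trivial, hy⟩)
    exact ⟨v, hv⟩⟩
  have sqW : IsPullback r s (W.ι ≫ D.obj.hom) c' :=
    IsPullback.of_isLimit' ⟨by rw [reassoc_of% hr]; exact pullback.condition⟩
      (PullbackCone.IsLimit.mk _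
        (fun q => pullback.lift (q.fst ≫ W.ι) q.snd (by rw [Category.assoc]; exact q.condition))
        (fun q => by rw [← cancel_mono W.ι, Category.assoc, hr]; exact pullback.lift_fst _ _ _)
        (fun q => pullback.lift_snd _ _ _)
        (fun q m h1 h2 => pullback.hom_ext
          (by rw [pullback.lift_fst, ← h1, Category.assoc, hr]) (by rw [pullback.lift_snd]; exact h2)))
  have sqe : IsPullback r (𝟙 V') e f := by
    refine IsPullback.of_bot ?_ ?_ sqf
    · rw [Category.id_comp, pullback.lift_snd]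
      exact sqW
    · rw [Category.id_comp]
      apply pullback.hom_ext
      · rw [Category.assoc, pullback.lift_fst, pullback.lift_fst, hπ]
      · rw [Category.assoc, pullback.lift_snd, pullback.lift_snd, reassoc_of% hr]
        exact pullback.condition
  haveI : IsIso e := MorphismProperty.of_isPullback_of_descendsAlong (P := MorphismProperty.isomorphisms Scheme)
    (Q := @Surjective ⊓ @Flat ⊓ @LocallyOfFinitePresentation) sqe.flip ⟨⟨inferInstance, inferInstance⟩, inferInstance⟩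
    (inferInstanceAs (IsIso (𝟙 V')))
  refine ⟨⟨U, h, π, IsPullback.of_iso_pullback ⟨hw⟩ (asIso e) (pullback.lift_fst _ _ _) (pullback.lift_snd _ _ _),
    fun {T} x₀ x₁ hx v z z' hz hz' => ?_⟩⟩
  -- cover `T` by the two pulled back covers
  have hr₀ : Set.range x₀ ⊆ Set.range X₀.ι := by
    rintro _ ⟨t, rfl⟩
    rw [Scheme.Opens.range_ι, ← v.2, ← hz]
    exact (z t).2
  have hr₁ : Set.range x₁ ⊆ Set.range X₀.ι := by
    rintro _ ⟨t, rfl⟩
    rw [Scheme.Opens.range_ι, ← (D.φ x₀ x₁ hx v).2, ← hz']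
    exact (z' t).2
  let l₀ := IsOpenImmersion.lift X₀.ι x₀ hr₀
  let l₁ := IsOpenImmersion.lift X₀.ι x₁ hr₁
  have hl₀ : l₀ ≫ X₀.ι = x₀ := IsOpenImmersion.lift_fac _ _ hr₀
  have hl₁ : l₁ ≫ X₀.ι = x₁ := IsOpenImmersion.lift_fac _ _ hr₁
  let q := pullback.fst l₀ c₁
  let q' := pullback.fst (q ≫ l₁) c₁
  rw [← cancel_epi q, ← cancel_epi q']
  let y₀ := q' ≫ pullback.snd l₀ c₁
  let y₁ := pullback.snd (q ≫ l₁) c₁
  have hy₀ : y₀ ≫ c' = (q' ≫ q) ≫ x₀ := by
    show (q' ≫ pullback.snd l₀ c₁) ≫ c₁ ≫ X₀.ι = _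
    rw [Category.assoc, ← reassoc_of% (pullback.condition : q ≫ l₀ = pullback.snd l₀ c₁ ≫ c₁), hl₀, Category.assoc]
  have hy₁ : y₁ ≫ c' = (q' ≫ q) ≫ x₁ := by
    show pullback.snd (q ≫ l₁) c₁ ≫ c₁ ≫ X₀.ι = _
    rw [← reassoc_of% (pullback.condition : q' ≫ q ≫ l₁ = pullback.snd (q ≫ l₁) c₁ ≫ c₁), hl₁, Category.assoc]
  have hy : y₀ ≫ c' ≫ p = y₁ ≫ c' ≫ p := by
    rw [reassoc_of% hy₀, reassoc_of% hy₁, hx]
  let v' : Desc.Lifts D'.obj y₀ := ⟨pullback.lift ((q' ≫ q) ≫ v.1) y₀ (by rw [hy₀, Category.assoc, v.2]), pullback.lift_snd _ _ _⟩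
  let w' := D'.φ y₀ y₁ hy v'
  have hv : v'.1 ≫ F = (q' ≫ q) ≫ v.1 := pullback.lift_fst _ _ _
  have hwF : w'.1 ≫ F = (q' ≫ q) ≫ (D.φ x₀ x₁ hx v).1 :=
    (pullback.lift_fst _ _ _).trans (RadDescent.φ_nat D (q' ≫ q) x₀ x₁ hx _ _ hy₀.symm hy₁.symm (compat c' hy) v _ hv)
  have key := inv₁ y₀ y₁ hy v' (v'.1 ≫ D'.obj.left.topIso.inv) (w'.1 ≫ D'.obj.left.topIso.inv)
    ((Category.assoc _ _ _).trans ((congrArg (v'.1 ≫ ·) D'.obj.left.topIso.inv_hom_id).trans (Category.comp_id _)))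
    ((Category.assoc _ _ _).trans ((congrArg (w'.1 ≫ ·) D'.obj.left.topIso.inv_hom_id).trans (Category.comp_id _)))
  have e0 : v'.1 ≫ r = (q' ≫ q) ≫ z := by rw [← cancel_mono W.ι, Category.assoc, hr, hv, Category.assoc _ z, hz]
  have e1 : w'.1 ≫ r = (q' ≫ q) ≫ z' := by rw [← cancel_mono W.ι, Category.assoc, hr, hwF, Category.assoc _ z', hz']
  calc q' ≫ q ≫ z ≫ π = ((q' ≫ q) ≫ z) ≫ π := by simp only [Category.assoc]
    _ = v'.1 ≫ π' := by rw [← e0, Category.assoc, hπ]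
    _ = w'.1 ≫ π' := (Category.assoc _ _ _).symm.trans (key.trans (Category.assoc _ _ _))
    _ = ((q' ≫ q) ≫ z') ≫ π :=
      ((congrArg (w'.1 ≫ ·) hπ.symm).trans (Category.assoc _ _ _).symm).trans (congrArg (· ≫ π) e1)
    _ = q' ≫ q ≫ z' ≫ π := by simp only [Category.assoc]

end Groth.Agent.StableDescent
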