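import Groth.Agent.StableDescent.AffineHom

/-!
# Descent data on quasi-affine schemes extend to the affine hull
-/

set_option autoImplicit false
set_option backward.isDefEq.respectTransparency false
set_option backward.isDefEq.respectTransparency.types false
set_option linter.style.haveILetI false
universe u
open CategoryTheory CategoryTheory.Limits AlgebraicGeometry

namespace Groth.Agent.StableDescent

theorem isIso_appTop_of_isPullback {V H T V' : Scheme.{u}} [IsAffine H] [IsAffine T] (j : V ⟶ H)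
    [CompactSpace V] [QuasiSeparatedSpace V] (k : T ⟶ H) [Flat k] [IsIso j.appTop] {a : V' ⟶ V} {b : V' ⟶ T}
    (sq : IsPullback a b j k) : IsIso b.appTop := by
  have hiso := isIso_pushoutSection_of_isQuasiSeparated_of_flat_right (US := ⊤) (UT := ⊤) (UX := ⊤)
    (UY := ⊤) sq (hUST := by simp) (hUSX := by simp) (hUY := by simp) (isAffineOpen_top H)
    (isAffineOpen_top T) isCompact_univ isQuasiSeparated_univ
  have := (isIso_pushoutSection_iff _ _ _ _).mp hiso
  have hpo : IsPushout j.appTop k.appTop a.appTop b.appTop := by simpa [Scheme.Hom.appLE] using this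
  exact MorphismProperty.of_isPushout (P := MorphismProperty.isomorphisms CommRingCat) hpo.flip
    (inferInstanceAs (IsIso j.appTop))

theorem ext_of_appTop {V' T Y : Scheme.{u}} [IsAffine Y] (b : V' ⟶ T) [IsIso b.appTop] {u v : T ⟶ Y}
    (h : b ≫ u = b ≫ v) : u = v := by
  apply ext_of_isAffine
  rw [← cancel_mono b.appTop, ← Scheme.Hom.comp_appTop, ← Scheme.Hom.comp_appTop, h]

theorem exists_extend {V' T Y : Scheme.{u}} [IsAffine T] [IsAffine Y] (b : V' ⟶ T) [IsIso b.appTop]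
    (w : V' ⟶ Y) : ∃ u : T ⟶ Y, b ≫ u = w := by
  refine ⟨T.toSpecΓ ≫ Spec.map (w.appTop ≫ inv b.appTop) ≫ Y.isoSpec.inv, ?_⟩
  rw [Scheme.toSpecΓ_naturality_assoc, ← Spec.map_comp_assoc, Category.assoc, IsIso.inv_hom_id, Category.comp_id,
    ← Scheme.toSpecΓ_naturality_assoc]
  show w ≫ Y.isoSpec.hom ≫ Y.isoSpec.inv = w
  rw [Iso.hom_inv_id, Category.comp_id]

variable {X S : Scheme.{u}} {g : X ⟶ S} [IsAffine X] [IsAffine S] [Flat g] [Surjective g]

theorem exists_hull (D : Desc.SchDD g) [D.obj.left.IsQuasiAffine] :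
    ∃ (E : Desc.SchDD g) (m : D ⟶ E), IsAffine E.obj.left ∧ IsOpenImmersion m.hom.left := by
  let V := D.obj.left
  let H := Spec Γ(V, ⊤)
  let j : V ⟶ H := V.toSpecΓ
  haveI : IsIso j.appTop := by
    show IsIso V.toSpecΓ.appTop
    rw [Scheme.toSpecΓ_appTop]
    infer_instance
  have hid : IsPullback (𝟙 V) j j (𝟙 H) := IsPullback.of_horiz_isIso ⟨by simp⟩
  obtain ⟨kX, hkX⟩ := exists_extend j D.obj.hom
  let fH : pullback (kX ≫ g) g ⟶ H := pullback.fst _ _
  let sH : pullback (kX ≫ g) g ⟶ X := pullback.snd _ _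
  haveI : Flat fH := MorphismProperty.pullback_fst (P := @Flat) _ _ ‹_›
  let b₂ : pullback j fH ⟶ pullback (kX ≫ g) g := pullback.snd _ _
  haveI : IsIso b₂.appTop := isIso_appTop_of_isPullback j fH (IsPullback.of_hasPullback j fH)
  have hc₂ : (pullback.fst j fH ≫ D.obj.hom) ≫ g = (b₂ ≫ sH) ≫ g := by
    simp only [b₂, sH, fH, Category.assoc, ← hkX, pullback.condition_assoc, pullback.condition]
  let q := D.φ _ _ hc₂ ⟨pullback.fst j fH, rfl⟩
  obtain ⟨qb, hqb⟩ := exists_extend b₂ (q.1 ≫ j)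
  have spec : ∀ {T : Scheme.{u}} (t : T ⟶ pullback (kX ≫ g) g) (v : T ⟶ V) (hv : v ≫ j = t ≫ fH)
      (x₀ x₁ : T ⟶ X) (h0 : v ≫ D.obj.hom = x₀) (h1 : t ≫ sH = x₁) (h : x₀ ≫ g = x₁ ≫ g),
      (D.φ x₀ x₁ h ⟨v, h0⟩).1 ≫ j = t ≫ qb := by
    intro T t v hv x₀ x₁ h0 h1 h
    have e := RadDescent.φ_nat D (pullback.lift v t hv) _ _ hc₂ x₀ x₁ (by rw [pullback.lift_fst_assoc]; exact h0)
      (by rw [pullback.lift_snd_assoc]; exact h1) h ⟨pullback.fst j fH, rfl⟩ ⟨v, h0⟩ (pullback.lift_fst _ _ _).symm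
    rw [e, Category.assoc, ← hqb, pullback.lift_snd_assoc]
  have hqX : qb ≫ kX = sH := by
    apply ext_of_appTop b₂
    rw [reassoc_of% hqb, hkX]
    exact q.2
  let lft : ∀ {T : Scheme.{u}} (x₀ x₁ : T ⟶ X) (_ : x₀ ≫ g = x₁ ≫ g) (_ : Desc.Lifts (Over.mk kX) x₀),
      T ⟶ pullback (kX ≫ g) g := fun x₀ x₁ h v => pullback.lift v.1 x₁ (by
        have e : v.1 ≫ kX = x₀ := v.2
        rw [← Category.assoc, e, h])
  let F : ∀ {T : Scheme.{u}} (x₀ x₁ : T ⟶ X), x₀ ≫ g = x₁ ≫ g → Desc.Lifts (Over.mk kX) x₀ →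
      Desc.Lifts (Over.mk kX) x₁ := fun x₀ x₁ h v => ⟨lft x₀ x₁ h v ≫ qb, by
        show (lft x₀ x₁ h v ≫ qb) ≫ kX = x₁
        rw [Category.assoc, hqX]
        exact pullback.lift_snd _ _ _⟩
  let Δ : H ⟶ pullback (kX ≫ g) g := pullback.lift (𝟙 H) kX (Category.id_comp _)
  have hΔ : Δ ≫ qb = 𝟙 H := by
    apply ext_of_appTop j
    have e := spec (j ≫ Δ) (𝟙 V) (by rw [Category.id_comp, Category.assoc, pullback.lift_fst, Category.comp_id])
      D.obj.hom D.obj.hom (Category.id_comp _) (by rw [Category.assoc, pullback.lift_snd, hkX]) rfl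
    rw [D.φ_self] at e
    rw [← Category.assoc, ← e, Category.id_comp, Category.comp_id]
  have F_self : ∀ {T : Scheme.{u}} (x : T ⟶ X) (v : Desc.Lifts (Over.mk kX) x), F x x rfl v = v := by
    intro T x v
    apply Subtype.ext
    show lft x x rfl v ≫ qb = v.1
    have e : lft x x rfl v = v.1 ≫ Δ := by
      apply pullback.hom_ext
      · rw [Category.assoc, pullback.lift_fst, pullback.lift_fst]
        exact (Category.comp_id v.1).symm
      · rw [Category.assoc, pullback.lift_snd, pullback.lift_snd]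
        exact v.2.symm
    rw [e, Category.assoc, hΔ]
    exact Category.comp_id v.1
  let t₃ : pullback (sH ≫ g) g ⟶ pullback (kX ≫ g) g := pullback.fst _ _
  let m₁ : pullback (sH ≫ g) g ⟶ pullback (kX ≫ g) g :=
    pullback.lift (t₃ ≫ qb) (pullback.snd _ _) (by rw [Category.assoc, reassoc_of% hqX]; exact pullback.condition)
  let m₂ : pullback (sH ≫ g) g ⟶ pullback (kX ≫ g) g :=
    pullback.lift (t₃ ≫ fH) (pullback.snd _ _) (by
      rw [Category.assoc, show fH ≫ kX ≫ g = sH ≫ g from pullback.condition]; exact pullback.condition)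
  have hm : m₁ ≫ qb = m₂ ≫ qb := by
    haveI : Flat t₃ := MorphismProperty.pullback_fst (P := @Flat) _ _ ‹_›
    haveI : Flat (t₃ ≫ fH) := inferInstance
    let a := pullback.fst j (t₃ ≫ fH)
    let b := pullback.snd j (t₃ ≫ fH)
    haveI : IsIso b.appTop := isIso_appTop_of_isPullback j (t₃ ≫ fH) (IsPullback.of_hasPullback j (t₃ ≫ fH))
    apply ext_of_appTop b
    have hab : a ≫ j = b ≫ t₃ ≫ fH := pullback.condition
    let y₀ := a ≫ D.obj.hom
    let y₁ := (b ≫ t₃) ≫ sH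
    let y₂ := b ≫ pullback.snd (sH ≫ g) g
    have h01 : y₀ ≫ g = y₁ ≫ g := by
      simp only [y₀, y₁, Category.assoc, ← hkX, reassoc_of% hab]
      rw [show fH ≫ kX ≫ g = sH ≫ g from pullback.condition]
    have h12 : y₁ ≫ g = y₂ ≫ g := by
      simp only [y₁, y₂, Category.assoc]
      rw [show t₃ ≫ sH ≫ g = pullback.snd (sH ≫ g) g ≫ g from pullback.condition]
    have e01 := spec (b ≫ t₃) a (by rw [hab, Category.assoc]) y₀ y₁ rfl rfl h01
    have e02 := spec (b ≫ m₂) a (by rw [hab, Category.assoc, pullback.lift_fst]) y₀ y₂ rfl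
      (by rw [Category.assoc, pullback.lift_snd]) (h01.trans h12)
    let w := D.φ y₀ y₁ h01 ⟨a, rfl⟩
    have e12 := spec (b ≫ m₁) w.1 (by rw [e01, Category.assoc, Category.assoc, pullback.lift_fst]) y₁ y₂ w.2
      (by rw [Category.assoc, pullback.lift_snd]) h12
    rw [D.φ_comp] at e12
    rw [← Category.assoc, ← Category.assoc, ← e12, ← e02]
  have F_comp : ∀ {T : Scheme.{u}} (x₀ x₁ x₂ : T ⟶ X) (h₀₁ : x₀ ≫ g = x₁ ≫ g) (h₁₂ : x₁ ≫ g = x₂ ≫ g)
      (v : Desc.Lifts (Over.mk kX) x₀), F x₁ x₂ h₁₂ (F x₀ x₁ h₀₁ v) = F x₀ x₂ (h₀₁.trans h₁₂) v := by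
    intro T x₀ x₁ x₂ h₀₁ h₁₂ v
    apply Subtype.ext
    let n : T ⟶ pullback (sH ≫ g) g := pullback.lift (lft x₀ x₁ h₀₁ v) x₂ (by
      rw [← Category.assoc, pullback.lift_snd, h₁₂])
    show lft x₁ x₂ h₁₂ (F x₀ x₁ h₀₁ v) ≫ qb = lft x₀ x₂ (h₀₁.trans h₁₂) v ≫ qb
    have e1 : lft x₁ x₂ h₁₂ (F x₀ x₁ h₀₁ v) = n ≫ m₁ := by
      apply pullback.hom_ext
      · rw [Category.assoc, pullback.lift_fst, pullback.lift_fst, pullback.lift_fst_assoc]
      · rw [Category.assoc, pullback.lift_snd, pullback.lift_snd, pullback.lift_snd]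
    have e2 : lft x₀ x₂ (h₀₁.trans h₁₂) v = n ≫ m₂ := by
      apply pullback.hom_ext
      · rw [Category.assoc, pullback.lift_fst, pullback.lift_fst, pullback.lift_fst_assoc, pullback.lift_fst]
      · rw [Category.assoc, pullback.lift_snd, pullback.lift_snd, pullback.lift_snd]
    rw [e1, e2, Category.assoc, Category.assoc, hm]
  let E : Desc.SchDD g :=
    { obj := Over.mk kX
      φ := fun T x₀ x₁ h =>
        { toFun := F x₀ x₁ h
          invFun := F x₁ x₀ h.symm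
          left_inv := fun v => (F_comp x₀ x₁ x₀ h h.symm v).trans (F_self x₀ v)
          right_inv := fun v => (F_comp x₁ x₀ x₁ h.symm h v).trans (F_self x₁ v) }
      φ_natural := fun T T' t x₀ x₁ h h' v v' hv => by
        show lft (t ≫ x₀) (t ≫ x₁) h' v' ≫ qb = t ≫ lft x₀ x₁ h v ≫ qb
        have e : lft (t ≫ x₀) (t ≫ x₁) h' v' = t ≫ lft x₀ x₁ h v := by
          apply pullback.hom_ext
          · rw [Category.assoc, pullback.lift_fst, pullback.lift_fst, hv]
          · rw [Category.assoc, pullback.lift_snd, pullback.lift_snd]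
        rw [e, Category.assoc]
      φ_self := fun T x v => F_self x v
      φ_comp := fun T x₀ x₁ x₂ h₀₁ h₁₂ v => F_comp x₀ x₁ x₂ h₀₁ h₁₂ v }
  refine ⟨E, ⟨Over.homMk j hkX, fun T x₀ x₁ h v w hw => ?_⟩, inferInstanceAs (IsAffine (Spec _)),
    (show IsOpenImmersion V.toSpecΓ from inferInstance)⟩
  show lft x₀ x₁ h w ≫ qb = (D.φ x₀ x₁ h v).1 ≫ j
  exact (spec (lft x₀ x₁ h w) v.1 (by rw [pullback.lift_fst]; exact hw.symm) x₀ x₁ v.2 (pullback.lift_snd _ _ _) h).symm

end Groth.Agent.StableDescent
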