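import Groth.Agent.StableDescent.Glue

/-!
# Open sub-data of effective descent data are effective
-/

set_option autoImplicit false
set_option backward.isDefEq.respectTransparency false
set_option backward.isDefEq.respectTransparency.types false
set_option linter.style.haveILetI false
universe u
open CategoryTheory CategoryTheory.Limits AlgebraicGeometry

namespace Groth.Agent.StableDescent

variable {X S : Scheme.{u}} {g : X ⟶ S} [Flat g] [Surjective g] [QuasiCompact g]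

theorem exists_iso_of_openImmersion {D E : Desc.SchDD g} (m : D ⟶ E) [IsOpenImmersion m.hom.left]
    (hE : ∃ U : Over S, Nonempty ((Desc.toDD g).obj U ≅ E)) :
    ∃ U : Over S, Nonempty ((Desc.toDD g).obj U ≅ D) := by
  obtain ⟨U', ⟨e⟩⟩ := hE
  let eo : E.obj ≅ ((Desc.toDD g).obj U').obj :=
    ⟨e.inv.hom, e.hom.hom, congrArg Desc.SchDD.Hom.hom e.inv_hom_id, congrArg Desc.SchDD.Hom.hom e.hom_inv_id⟩
  haveI : IsIso e.hom.hom.left := ((Over.forget _).mapIso eo).isIso_inv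
  obtain ⟨W₀, hW₀⟩ := exists_idx_of_hom E e.hom
  let K : D.obj.left ⟶ E.obj.left := m.hom.left
  have hKD : K ≫ E.obj.hom = D.obj.hom := Over.w m.hom
  let W := K.opensRange
  have hst : Stable E W := fun T x₀ x₁ hx v t ht => by
    let O := v.1 ⁻¹ᵁ W
    have hx' : (O.ι ≫ x₀) ≫ g = (O.ι ≫ x₁) ≫ g := by rw [Category.assoc, Category.assoc, hx]
    let v' : Desc.Lifts E.obj (O.ι ≫ x₀) := ⟨O.ι ≫ v.1, by rw [Category.assoc, v.2]⟩
    have hr : ((v.1 ∣_ W) ≫ K.isoOpensRange.inv) ≫ K = v'.1 := by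
      rw [Category.assoc, K.isoOpensRange_inv_comp]
      exact morphismRestrict_ι _ _
    let w : Desc.Lifts D.obj (O.ι ≫ x₀) := ⟨(v.1 ∣_ W) ≫ K.isoOpensRange.inv, by
      rw [← hKD, ← Category.assoc, hr]
      exact v'.2⟩
    have h1 := m.comm _ _ hx' w v' hr.symm
    have h2 := E.φ_natural O.ι x₀ x₁ hx hx' v v' rfl
    exact ⟨_, congr($(h1.symm.trans h2) ⟨t, ht⟩)⟩
  obtain ⟨Q⟩ := nonempty_quot_of_le E W₀ W hst (by
    rw [hW₀]
    intro y _
    exact e.hom.hom.left.surjective y)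
  let i : D.obj.left ⟶ W.toScheme := K.isoOpensRange.hom
  have hi : i ≫ W.ι = K := K.isoOpensRange_hom_ι
  let topD : (⊤ : D.obj.left.Opens).toScheme ⟶ D.obj.left := (⊤ : D.obj.left.Opens).ι
  refine exists_iso D fun x => ⟨⟨⊤, fun _ _ _ _ _ _ _ => trivial, ⟨⟨Q.U, Q.h, topD ≫ i ≫ Q.π, ?_, ?_⟩⟩⟩, trivial⟩
  · refine IsPullback.of_iso Q.isPullback (D.obj.left.topIso ≪≫ K.isoOpensRange).symm (Iso.refl _) (Iso.refl _)
      (Iso.refl _) ?_ ?_ ?_ ?_
    · show Q.π ≫ 𝟙 _ = (K.isoOpensRange.inv ≫ D.obj.left.topIso.inv) ≫ D.obj.left.topIso.hom ≫ i ≫ Q.π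
      simp [i]
    · show (W.ι ≫ E.obj.hom) ≫ 𝟙 _ =
        (K.isoOpensRange.inv ≫ D.obj.left.topIso.inv) ≫ D.obj.left.topIso.hom ≫ D.obj.hom
      rw [Category.comp_id, Category.assoc, Iso.inv_hom_id_assoc, ← hKD, ← Category.assoc _ K,
        K.isoOpensRange_inv_comp]
    · simp
    · simp
  · intro T x₀ x₁ hx v z z' hz hz'
    let w : Desc.Lifts E.obj x₀ := ⟨v.1 ≫ K, by rw [Category.assoc, hKD, v.2]⟩
    have h1 := m.comm x₀ x₁ hx v w rfl
    rw [← Category.assoc, ← Category.assoc, ← Category.assoc, ← Category.assoc]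
    refine Q.inv x₀ x₁ hx w _ _ ?_ ?_
    · rw [Category.assoc, Category.assoc, hi, show z ≫ topD ≫ K = (z ≫ topD) ≫ K from (Category.assoc _ _ _).symm,
        show z ≫ topD = v.1 from hz]
    · rw [Category.assoc, Category.assoc, hi, show z' ≫ topD ≫ K = (z' ≫ topD) ≫ K from (Category.assoc _ _ _).symm,
        show z' ≫ topD = (D.φ x₀ x₁ hx v).1 from hz', h1]

end Groth.Agent.StableDescent
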