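import Groth.Agent.StableDescent.AffineHom
import Groth.Agent.StableDescent.Hull
import Groth.Agent.StableDescent.Restrict
import Groth.Agent.QuasiAffMor.Basic

/-!
# Effectivity of quasi-affine descent data
-/

set_option autoImplicit false
set_option backward.isDefEq.respectTransparency false
set_option backward.isDefEq.respectTransparency.types false
set_option linter.style.haveILetI false
universe u
open CategoryTheory CategoryTheory.Limits AlgebraicGeometry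

namespace Groth.Agent.StableDescent

/-- A descent datum relative to a finer relation. -/
def changeBase {X S S₀ : Scheme.{u}} {q : X ⟶ S} (D : Desc.SchDD q) (g₀ : X ⟶ S₀)
    (h : ∀ {T : Scheme.{u}} (x₀ x₁ : T ⟶ X), x₀ ≫ g₀ = x₁ ≫ g₀ → x₀ ≫ q = x₁ ≫ q) : Desc.SchDD g₀ where
  obj := D.obj
  φ T x₀ x₁ hx := D.φ x₀ x₁ (h x₀ x₁ hx)
  φ_natural T T' t x₀ x₁ hx hx' v v' hv := D.φ_natural t x₀ x₁ _ _ v v' hv
  φ_self T x v := D.φ_self x v
  φ_comp T x₀ x₁ x₂ h₀₁ h₁₂ v := D.φ_comp x₀ x₁ x₂ _ _ v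

theorem isQuasiAffine_of_iso {A B : Scheme.{u}} (e : A ≅ B) (h : A.IsQuasiAffine) : B.IsQuasiAffine :=
  haveI := h
  Scheme.IsQuasiAffine.of_isAffineHom (f := e.inv)

variable {X S : Scheme.{u}} {p : X ⟶ S} (D : Desc.SchDD p) [Surjective p] [Flat p] [QuasiCompact p]

theorem exists_idx_of_pullback (S₀ : S.Opens) (hS₀ : IsAffineOpen S₀) (x : D.obj.left)
    (hx₀ : p (D.obj.hom x) ∈ S₀)
    (hQA : ∀ {X' : Scheme.{u}} [IsAffine X'] (c : X' ⟶ X), Set.range c ⊆ p ⁻¹ᵁ S₀ →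
      (pullback D.obj.hom c).IsQuasiAffine) : ∃ W : Idx D, x ∈ W.1 := by
  let X₀ := p ⁻¹ᵁ S₀
  let W := D.obj.hom ⁻¹ᵁ X₀
  have hst : Stable D W := fun T x₀ x₁ hx v t ht => by
    show p (D.obj.hom ((D.φ x₀ x₁ hx v).1 t)) ∈ S₀
    rw [← Scheme.Hom.comp_apply _ D.obj.hom, (D.φ x₀ x₁ hx v).2, ← Scheme.Hom.comp_apply, ← hx]
    show (x₀ ≫ p) t ∈ S₀
    rw [← v.2]
    exact ht
  refine ⟨⟨W, hst, ?_⟩, hx₀⟩
  haveI : CompactSpace X₀.toScheme := isCompact_iff_compactSpace.mp (p.isCompact_preimage hS₀.isCompact)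
  let 𝒰 := X₀.toScheme.affineCover.finiteSubcover
  haveI : ∀ i, IsAffine (𝒰.X i) := fun i => inferInstance
  let c₁ : (∐ 𝒰.X) ⟶ X₀.toScheme := Limits.Sigma.desc 𝒰.f
  haveI : IsLocalIso c₁ := by
    refine IsZariskiLocalAtSource.of_openCover (P := @IsLocalIso) (sigmaOpenCover 𝒰.X) fun i => ?_
    show IsLocalIso (Limits.Sigma.ι 𝒰.X i ≫ Limits.Sigma.desc 𝒰.f)
    rw [Limits.Sigma.ι_desc]
    exact IsZariskiLocalAtSource.of_isOpenImmersion _
  haveI : Flat c₁ := IsZariskiLocalAtSource.of_openCover (P := @Flat) (sigmaOpenCover 𝒰.X) fun i => by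
    show Flat (Limits.Sigma.ι 𝒰.X i ≫ Limits.Sigma.desc 𝒰.f)
    rw [Limits.Sigma.ι_desc]
    infer_instance
  haveI : LocallyOfFinitePresentation c₁ :=
    IsZariskiLocalAtSource.of_openCover (P := @LocallyOfFinitePresentation) (sigmaOpenCover 𝒰.X) fun i => by
    show LocallyOfFinitePresentation (Limits.Sigma.ι 𝒰.X i ≫ Limits.Sigma.desc 𝒰.f)
    rw [Limits.Sigma.ι_desc]
    infer_instance
  haveI : Surjective c₁ := ⟨fun y => by
    obtain ⟨i, z, hz⟩ := 𝒰.exists_eq y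
    exact ⟨Limits.Sigma.ι 𝒰.X i z, (congr($(Limits.Sigma.ι_desc 𝒰.f i) z)).trans hz⟩⟩
  haveI : IsAffine (∐ 𝒰.X) := inferInstance
  let c' := c₁ ≫ X₀.ι
  haveI : Flat c' := inferInstanceAs (Flat (c₁ ≫ X₀.ι))
  haveI : LocallyOfFinitePresentation c' := inferInstanceAs (LocallyOfFinitePresentation (c₁ ≫ X₀.ι))
  let V' := pullback D.obj.hom c'
  let s : V' ⟶ ∐ 𝒰.X := pullback.snd D.obj.hom c'
  let g₀ : (∐ 𝒰.X) ⟶ S₀.toScheme := c₁ ≫ (p ∣_ S₀)
  haveI : IsAffine S₀.toScheme := hS₀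
  haveI : Flat (p ∣_ S₀) := IsZariskiLocalAtTarget.restrict (P := @Flat) ‹Flat p› S₀
  haveI : Surjective (p ∣_ S₀) := IsZariskiLocalAtTarget.restrict (P := @Surjective) ‹Surjective p› S₀
  haveI : Flat g₀ := inferInstanceAs (Flat (c₁ ≫ (p ∣_ S₀)))
  haveI : Surjective g₀ := inferInstanceAs (Surjective (c₁ ≫ (p ∣_ S₀)))
  haveI : IsAffineHom g₀ := isAffineHom_of_isAffine g₀
  have hg₀ : g₀ ≫ S₀.ι = c' ≫ p := by
    show (c₁ ≫ (p ∣_ S₀)) ≫ S₀.ι = (c₁ ≫ X₀.ι) ≫ p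
    rw [Category.assoc, morphismRestrict_ι, Category.assoc]
  let D' := pullDD D c'
  let D₀ : Desc.SchDD g₀ := changeBase D' g₀ fun x₀ x₁ h => by
    exact (congrArg (x₀ ≫ ·) hg₀.symm).trans ((Category.assoc _ _ _).symm.trans
      ((congrArg (· ≫ S₀.ι) h).trans ((Category.assoc _ _ _).trans (congrArg (x₁ ≫ ·) hg₀))))
  haveI : D₀.obj.left.IsQuasiAffine := by
    show (pullback D.obj.hom c').IsQuasiAffine
    exact hQA c' (by
      rintro _ ⟨y, rfl⟩
      exact (c₁ y).2)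
  obtain ⟨E, m, hE, hm⟩ := exists_hull D₀
  haveI := hE
  haveI := hm
  haveI : IsAffineHom E.obj.hom := isAffineHom_of_isAffine _
  obtain ⟨U₀, ⟨e⟩⟩ := exists_iso_of_openImmersion m (exists_iso E fun v => exists_idx_of_affineHom E v)
  let eo : D₀.obj ≅ ((Desc.toDD g₀).obj U₀).obj :=
    ⟨e.inv.hom, e.hom.hom, congrArg Desc.SchDD.Hom.hom e.inv_hom_id, congrArg Desc.SchDD.Hom.hom e.hom_inv_id⟩
  haveI : IsIso e.hom.hom.left := ((Over.forget _).mapIso eo).isIso_inv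
  obtain ⟨W₀, hW₀⟩ := exists_idx_of_hom D₀ e.hom
  have hW₀' : ∀ y : V', y ∈ W₀.1 := fun y => by
    rw [hW₀]
    exact e.hom.hom.left.surjective y
  let τ : V' ⟶ W₀.1.toScheme := IsOpenImmersion.lift W₀.1.ι (𝟙 V') (fun y _ => ⟨⟨y, hW₀' y⟩, rfl⟩)
  have hτ : τ ≫ W₀.1.ι = 𝟙 V' := IsOpenImmersion.lift_fac _ _ _
  haveI : IsIso τ := ⟨W₀.1.ι, hτ, by
    rw [← cancel_mono W₀.1.ι, Category.assoc, hτ]
    exact (Category.comp_id _).trans (Category.id_comp _).symm⟩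
  let U := (quot D₀ W₀).U
  let h : U ⟶ S := (quot D₀ W₀).h ≫ S₀.ι
  let π₁ := (quot D₀ W₀).π
  let π' : V' ⟶ U := τ ≫ π₁
  have hh : Set.range h ⊆ S₀ := by
    rintro _ ⟨y, rfl⟩
    exact ((quot D₀ W₀).h y).2
  have sq'' : IsPullback π' s (quot D₀ W₀).h g₀ := by
    refine IsPullback.of_iso (quot D₀ W₀).isPullback (asIso τ).symm (Iso.refl _) (Iso.refl _) (Iso.refl _) ?_ ?_ ?_ ?_
    · simp [π', π₁]
    · show (W₀.1.ι ≫ D₀.obj.hom) ≫ 𝟙 _ = (asIso τ).inv ≫ s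
      rw [Category.comp_id, Iso.eq_inv_comp, asIso_hom, ← Category.assoc, hτ]
      exact Category.id_comp _
    · simp [U]
    · simp
  have sq' : IsPullback π' s h (c' ≫ p) :=
    IsPullback.of_isLimit' ⟨by rw [← hg₀, reassoc_of% sq''.w]⟩
      (PullbackCone.IsLimit.mk _
        (fun q => sq''.lift q.fst q.snd (by
          rw [← cancel_mono S₀.ι]
          exact (Category.assoc _ _ _).trans (q.condition.trans
            ((congrArg (q.snd ≫ ·) hg₀.symm).trans (Category.assoc _ _ _).symm))))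
        (fun q => sq''.lift_fst _ _ _)
        (fun q => sq''.lift_snd _ _ _)
        (fun q m h1 h2 => sq''.hom_ext (h1.trans (sq''.lift_fst _ _ _).symm) (h2.trans (sq''.lift_snd _ _ _).symm)))
  have inv₁ : ∀ {T : Scheme.{u}} (x₀ x₁ : T ⟶ ∐ 𝒰.X) (hx : x₀ ≫ c' ≫ p = x₁ ≫ c' ≫ p) (v : Desc.Lifts D'.obj x₀),
      v.1 ≫ π' = (D'.φ x₀ x₁ hx v).1 ≫ π' := by
    intro T x₀ x₁ hx v
    have hx₀ : x₀ ≫ g₀ = x₁ ≫ g₀ := by
      rw [← cancel_mono S₀.ι]
      exact (Category.assoc _ _ _).trans ((congrArg (x₀ ≫ ·) hg₀).trans (hx.trans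
        ((congrArg (x₁ ≫ ·) hg₀.symm).trans (Category.assoc _ _ _).symm)))
    have := (quot D₀ W₀).inv x₀ x₁ hx₀ v (v.1 ≫ τ) ((D'.φ x₀ x₁ hx v).1 ≫ τ)
      ((Category.assoc _ _ _).trans ((congrArg (v.1 ≫ ·) hτ).trans (Category.comp_id _)))
      ((Category.assoc _ _ _).trans ((congrArg ((D'.φ x₀ x₁ hx v).1 ≫ ·) hτ).trans (Category.comp_id _)))
    exact (Category.assoc _ _ _).symm.trans (this.trans (Category.assoc _ _ _))
  let F : V' ⟶ D.obj.left := pullback.fst D.obj.hom c'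
  have hF : Set.range F ⊆ Set.range W.ι := by
    rintro _ ⟨y, rfl⟩
    rw [Scheme.Opens.range_ι]
    show D.obj.hom (F y) ∈ X₀
    rw [← Scheme.Hom.comp_apply, pullback.condition]
    exact (c₁ (s y)).2
  let r : V' ⟶ W.toScheme := IsOpenImmersion.lift W.ι F hF
  have hr : r ≫ W.ι = F := IsOpenImmersion.lift_fac _ _ hF
  have sqr : IsPullback r s (D.obj.hom ∣_ X₀) c₁ := by
    refine IsPullback.of_right ?_ ?_ (isPullback_morphismRestrict D.obj.hom X₀).flip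
    · rw [hr]
      exact IsPullback.of_hasPullback _ _
    · rw [← cancel_mono X₀.ι, Category.assoc, morphismRestrict_ι, reassoc_of% hr, Category.assoc]
      exact pullback.condition
  haveI : Flat r := MorphismProperty.of_isPullback (P := @Flat) sqr.flip ‹_›
  haveI : Surjective r := MorphismProperty.of_isPullback (P := @Surjective) sqr.flip ‹_›
  haveI : LocallyOfFinitePresentation r :=
    MorphismProperty.of_isPullback (P := @LocallyOfFinitePresentation) sqr.flip ‹_›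
  have hcond : ∀ {Z : Scheme.{u}} (a b : Z ⟶ V'), a ≫ r = b ≫ r → a ≫ π' = b ≫ π' := by
    intro Z a b e
    have eF : a ≫ F = b ≫ F := by rw [← hr, reassoc_of% e]
    have ec : (a ≫ s) ≫ c' = (b ≫ s) ≫ c' := by
      rw [Category.assoc, Category.assoc, ← pullback.condition, ← Category.assoc, eF, Category.assoc]
    have hx : (a ≫ s) ≫ c' ≫ p = (b ≫ s) ≫ c' ≫ p := by
      simpa only [Category.assoc] using congrArg (· ≫ p) ec
    let v : Desc.Lifts D'.obj (a ≫ s) := ⟨a, rfl⟩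
    refine (inv₁ (a ≫ s) (b ≫ s) hx v).trans (congrArg (· ≫ π') ?_)
    apply pullback.hom_ext
    · refine (pullback.lift_fst _ _ _).trans ?_
      exact (φ_val_of_eq D _ _ ec _ _).trans eF
    · exact pullback.lift_snd _ _ _
  let π : W.toScheme ⟶ U := EffectiveEpi.desc r π' hcond
  have hπ : r ≫ π = π' := EffectiveEpi.fac r π' hcond
  have hw : π ≫ h = (W.ι ≫ D.obj.hom) ≫ p := by
    rw [← cancel_epi r, reassoc_of% hπ, sq'.w]
    simp only [Category.assoc, reassoc_of% hr]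
    rw [← reassoc_of% (pullback.condition : F ≫ D.obj.hom = s ≫ c')]
  let P := pullback h p
  let e : W.toScheme ⟶ P := pullback.lift π (W.ι ≫ D.obj.hom) hw
  have hFD : s ≫ c' ≫ p = π' ≫ h := sq'.w.symm
  let f : V' ⟶ P := pullback.lift π' (s ≫ c') (hFD.symm.trans (Category.assoc _ _ _).symm)
  have sqf : IsPullback f s (pullback.snd h p) c' := by
    refine IsPullback.of_right ?_ (pullback.lift_snd _ _ _) (IsPullback.of_hasPullback h p)
    rw [pullback.lift_fst]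
    exact sq'
  haveI : Flat f := MorphismProperty.of_isPullback (P := @Flat) sqf.flip ‹_›
  haveI : LocallyOfFinitePresentation f :=
    MorphismProperty.of_isPullback (P := @LocallyOfFinitePresentation) sqf.flip ‹_›
  haveI : Surjective f := ⟨fun w => by
    have hw' : pullback.snd h p w ∈ Set.range c' := by
      have : p (pullback.snd h p w) ∈ S₀ := by
        rw [← Scheme.Hom.comp_apply, ← pullback.condition]
        exact hh ⟨pullback.fst h p w, rfl⟩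
      obtain ⟨y, hy⟩ := c₁.surjective ⟨pullback.snd h p w, this⟩
      exact ⟨y, congrArg Subtype.val hy⟩
    obtain ⟨y, hy⟩ := hw'
    obtain ⟨v, -, hv⟩ := (Scheme.image_preimage_eq_of_isPullback sqf.flip Set.univ).ge
      (show w ∈ (pullback.snd h p).base ⁻¹' (c'.base '' Set.univ) from ⟨y, trivial, hy⟩)
    exact ⟨v, hv⟩⟩
  have sqW : IsPullback r s (W.ι ≫ D.obj.hom) c' :=
    IsPullback.of_isLimit' ⟨by rw [reassoc_of% hr]; exact pullback.condition⟩
      (PullbackCone.IsLimit.mk _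
        (fun q => pullback.lift (q.fst ≫ W.ι) q.snd (by rw [Category.assoc]; exact q.condition))
        (fun q => by rw [← cancel_mono W.ι, Category.assoc, hr]; exact pullback.lift_fst _ _ _)
        (fun q => pullback.lift_snd _ _ _)
        (fun q m h1 h2 => pullback.hom_ext
          (by rw [pullback.lift_fst, ← h1, Category.assoc, hr]) (by rw [pullback.lift_snd]; exact h2)))
  have sqe : IsPullback r (𝟙 V') e f := by
    refine IsPullback.of_bot ?_ ?_ sqf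
    · rw [Category.id_comp, pullback.lift_snd]
      exact sqW
    · rw [Category.id_comp]
      apply pullback.hom_ext
      · rw [Category.assoc, pullback.lift_fst, pullback.lift_fst, hπ]
      · rw [Category.assoc, pullback.lift_snd, pullback.lift_snd, reassoc_of% hr]
        exact pullback.condition
  haveI : IsIso e := MorphismProperty.of_isPullback_of_descendsAlong (P := MorphismProperty.isomorphisms Scheme)
    (Q := @Surjective ⊓ @Flat ⊓ @LocallyOfFinitePresentation) sqe.flip ⟨⟨inferInstance, inferInstance⟩, inferInstance⟩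
    (inferInstanceAs (IsIso (𝟙 V')))
  refine ⟨⟨U, h, π, IsPullback.of_iso_pullback ⟨hw⟩ (asIso e) (pullback.lift_fst _ _ _) (pullback.lift_snd _ _ _),
    fun {T} x₀ x₁ hx v z z' hz hz' => ?_⟩⟩
  -- cover `T` by the two pulled back covers
  have hr₀ : Set.range x₀ ⊆ Set.range X₀.ι := by
    rintro _ ⟨t, rfl⟩
    rw [Scheme.Opens.range_ι, ← v.2, ← hz]
    exact (z t).2
  have hr₁ : Set.range x₁ ⊆ Set.range X₀.ι := by
    rintro _ ⟨t, rfl⟩
    rw [Scheme.Opens.range_ι, ← (D.φ x₀ x₁ hx v).2, ← hz']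
    exact (z' t).2
  let l₀ := IsOpenImmersion.lift X₀.ι x₀ hr₀
  let l₁ := IsOpenImmersion.lift X₀.ι x₁ hr₁
  have hl₀ : l₀ ≫ X₀.ι = x₀ := IsOpenImmersion.lift_fac _ _ hr₀
  have hl₁ : l₁ ≫ X₀.ι = x₁ := IsOpenImmersion.lift_fac _ _ hr₁
  let q := pullback.fst l₀ c₁
  let q' := pullback.fst (q ≫ l₁) c₁
  rw [← cancel_epi q, ← cancel_epi q']
  let y₀ := q' ≫ pullback.snd l₀ c₁
  let y₁ := pullback.snd (q ≫ l₁) c₁
  have hy₀ : y₀ ≫ c' = (q' ≫ q) ≫ x₀ := by
    show (q' ≫ pullback.snd l₀ c₁) ≫ c₁ ≫ X₀.ι = _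
    rw [Category.assoc, ← reassoc_of% (pullback.condition : q ≫ l₀ = pullback.snd l₀ c₁ ≫ c₁), hl₀, Category.assoc]
  have hy₁ : y₁ ≫ c' = (q' ≫ q) ≫ x₁ := by
    show pullback.snd (q ≫ l₁) c₁ ≫ c₁ ≫ X₀.ι = _
    rw [← reassoc_of% (pullback.condition : q' ≫ q ≫ l₁ = pullback.snd (q ≫ l₁) c₁ ≫ c₁), hl₁, Category.assoc]
  have hy : y₀ ≫ c' ≫ p = y₁ ≫ c' ≫ p := by
    rw [reassoc_of% hy₀, reassoc_of% hy₁, hx]
  let v' : Desc.Lifts D'.obj y₀ := ⟨pullback.lift ((q' ≫ q) ≫ v.1) y₀ (by rw [hy₀, Category.assoc, v.2]), pullback.lift_snd _ _ _⟩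
  let w' := D'.φ y₀ y₁ hy v'
  have hv : v'.1 ≫ F = (q' ≫ q) ≫ v.1 := pullback.lift_fst _ _ _
  have hwF : w'.1 ≫ F = (q' ≫ q) ≫ (D.φ x₀ x₁ hx v).1 :=
    (pullback.lift_fst _ _ _).trans (RadDescent.φ_nat D (q' ≫ q) x₀ x₁ hx _ _ hy₀.symm hy₁.symm (compat c' hy) v _ hv)
  have key := inv₁ y₀ y₁ hy v'
  have e0 : v'.1 ≫ r = (q' ≫ q) ≫ z := by rw [← cancel_mono W.ι, Category.assoc, hr, hv, Category.assoc _ z, hz]
  have e1 : w'.1 ≫ r = (q' ≫ q) ≫ z' := by rw [← cancel_mono W.ι, Category.assoc, hr, hwF, Category.assoc _ z', hz']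
  calc q' ≫ q ≫ z ≫ π = ((q' ≫ q) ≫ z) ≫ π := by simp only [Category.assoc]
    _ = v'.1 ≫ π' := by rw [← e0, Category.assoc, hπ]
    _ = w'.1 ≫ π' := key
    _ = ((q' ≫ q) ≫ z') ≫ π :=
      ((congrArg (w'.1 ≫ ·) hπ.symm).trans (Category.assoc _ _ _).symm).trans (congrArg (· ≫ π) e1)
    _ = q' ≫ q ≫ z' ≫ π := by simp only [Category.assoc]

theorem exists_idx_of_quasiAffine (hD : Mor2.IsQuasiAffine D.obj.hom) (x : D.obj.left) : ∃ W : Idx D, x ∈ W.1 := by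
  obtain ⟨S₀, hS₀, hx₀, -⟩ := exists_isAffineOpen_mem_and_subset (x := p (D.obj.hom x)) (U := ⊤) trivial
  exact exists_idx_of_pullback D S₀ hS₀ x hx₀ fun {X'} _ c _ =>
    isQuasiAffine_of_iso (pullback D.obj.hom c).topIso
      ((QuasiAffMor.baseChange D.obj.hom hD c).2 ⊤ (isAffineOpen_top _))

end Groth.Agent.StableDescent
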