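import Groth.Agent.StableDescent.QuasiAffineHom
import Mathlib

/-!
# Effectivity along finite locally free morphisms
-/

set_option autoImplicit false
set_option backward.isDefEq.respectTransparency false
set_option backward.isDefEq.respectTransparency.types false
set_option linter.style.haveILetI false
universe u
open CategoryTheory CategoryTheory.Limits AlgebraicGeometry

namespace Groth.Agent.StableDescent

variable {X S : Scheme.{u}} {g : X ⟶ S} (D : Desc.SchDD g)

/-- `V ×_S X`. -/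
noncomputable abbrev relObj := pullback (D.obj.hom ≫ g) g

theorem rel_cond : (pullback.fst (D.obj.hom ≫ g) g ≫ D.obj.hom) ≫ g = pullback.snd (D.obj.hom ≫ g) g ≫ g :=
  (Category.assoc _ _ _).trans pullback.condition

/-- The action `V ×_S X ⟶ V`. -/
noncomputable def act : relObj D ⟶ D.obj.left :=
  (D.φ _ _ (rel_cond D) ⟨pullback.fst (D.obj.hom ≫ g) g, rfl⟩).1

theorem act_hom : act D ≫ D.obj.hom = pullback.snd (D.obj.hom ≫ g) g :=
  (D.φ _ _ (rel_cond D) ⟨pullback.fst (D.obj.hom ≫ g) g, rfl⟩).2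

theorem φ_eq_act {T : Scheme.{u}} (x₀ x₁ : T ⟶ X) (h : x₀ ≫ g = x₁ ≫ g) (v : Desc.Lifts D.obj x₀)
    (l : T ⟶ relObj D) (h0 : l ≫ pullback.fst _ _ = v.1) (h1 : l ≫ pullback.snd _ _ = x₁) :
    (D.φ x₀ x₁ h v).1 = l ≫ act D :=
  RadDescent.φ_nat D l _ _ (rel_cond D) x₀ x₁ (by rw [reassoc_of% h0]; exact v.2) h1 h
    ⟨pullback.fst _ _, rfl⟩ v h0.symm

/-- The involution exchanging the two projections. -/
noncomputable def swap : relObj D ⟶ relObj D :=
  pullback.lift (act D) (pullback.fst _ _ ≫ D.obj.hom) (by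
    rw [reassoc_of% act_hom, Category.assoc]
    exact pullback.condition.symm)

theorem swap_act : swap D ≫ act D = pullback.fst _ _ := by
  let v : Desc.Lifts D.obj (pullback.fst (D.obj.hom ≫ g) g ≫ D.obj.hom) := ⟨pullback.fst _ _, rfl⟩
  have e := φ_eq_act D _ _ (rel_cond D).symm (D.φ _ _ (rel_cond D) v) (swap D) (pullback.lift_fst _ _ _) (pullback.lift_snd _ _ _)
  rw [D.φ_comp, D.φ_self] at e
  exact e.symm

instance isIso_swap : IsIso (swap D) := by
  refine ⟨swap D, ?_, ?_⟩ <;>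
  · apply pullback.hom_ext
    · rw [Category.assoc, Category.id_comp]
      show swap D ≫ swap D ≫ pullback.fst _ _ = _
      rw [show swap D ≫ pullback.fst _ _ = act D from pullback.lift_fst _ _ _, swap_act]
    · rw [Category.assoc, Category.id_comp]
      show swap D ≫ swap D ≫ pullback.snd _ _ = _
      rw [show swap D ≫ pullback.snd _ _ = pullback.fst _ _ ≫ D.obj.hom from pullback.lift_snd _ _ _,
        ← Category.assoc, show swap D ≫ pullback.fst _ _ = act D from pullback.lift_fst _ _ _, act_hom]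

theorem act_eq : act D = swap D ≫ pullback.fst _ _ := (pullback.lift_fst _ _ _).symm

variable [Flat g] [Surjective g] [QuasiCompact g]

/-- Image of an open under the action is stable. -/
theorem stable_image [LocallyOfFinitePresentation g] (A : D.obj.left.Opens) :
    ∃ W : D.obj.left.Opens, Stable D W ∧ A ≤ W ∧
      (W : Set D.obj.left) = act D '' (pullback.fst (D.obj.hom ≫ g) g ⁻¹' (A : Set D.obj.left)) := by
  haveI : Flat (pullback.fst (D.obj.hom ≫ g) g) := MorphismProperty.pullback_fst _ _ ‹_›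
  haveI : LocallyOfFinitePresentation (pullback.fst (D.obj.hom ≫ g) g) := MorphismProperty.pullback_fst _ _ ‹_›
  haveI : Flat (act D) := by rw [act_eq]; infer_instance
  haveI : LocallyOfFinitePresentation (act D) := by rw [act_eq]; infer_instance
  let W : D.obj.left.Opens := ⟨act D '' (pullback.fst (D.obj.hom ≫ g) g ⁻¹' (A : Set D.obj.left)),
    (act D).isOpenMap _ (A.2.preimage (pullback.fst (D.obj.hom ≫ g) g).continuous)⟩
  refine ⟨W, fun T x₀ x₁ hx v t ht => ?_, fun y hy => ?_, rfl⟩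
  · obtain ⟨z, hz, hzt⟩ := ht
    obtain ⟨t', h1, h2⟩ := Scheme.Pullback.exists_preimage_pullback (f := v.1) (g := act D) t z hzt.symm
    let q := pullback.fst v.1 (act D)
    let r := pullback.snd v.1 (act D)
    have hc : q ≫ v.1 = r ≫ act D := pullback.condition
    let a := r ≫ pullback.fst (D.obj.hom ≫ g) g
    have hv' : q ≫ x₀ = r ≫ pullback.snd (D.obj.hom ≫ g) g :=
      (congrArg (q ≫ ·) v.2.symm).trans ((reassoc_of% hc) _ |>.trans (congrArg (r ≫ ·) (act_hom D)))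
    have h01 : (a ≫ D.obj.hom) ≫ g = (q ≫ x₀) ≫ g := by
      rw [hv']
      simp only [a, Category.assoc, pullback.condition]
    have h12 : (q ≫ x₀) ≫ g = (q ≫ x₁) ≫ g := by rw [Category.assoc, Category.assoc, hx]
    have e01 := φ_eq_act D (a ≫ D.obj.hom) (q ≫ x₀) h01 ⟨a, rfl⟩ r rfl hv'.symm
    let u := D.φ (a ≫ D.obj.hom) (q ≫ x₀) h01 ⟨a, rfl⟩
    have hu : u.1 = q ≫ v.1 := e01.trans hc.symm
    have e12 := RadDescent.φ_nat D q x₀ x₁ hx (q ≫ x₀) (q ≫ x₁) rfl rfl h12 v u hu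
    rw [D.φ_comp] at e12
    let l : pullback v.1 (act D) ⟶ relObj D := pullback.lift a (q ≫ x₁) (by
      rw [← Category.assoc]; exact h01.trans h12)
    have e02 := φ_eq_act D (a ≫ D.obj.hom) (q ≫ x₁) (h01.trans h12) ⟨a, rfl⟩ l (pullback.lift_fst _ _ _) (pullback.lift_snd _ _ _)
    have hla : pullback.fst (D.obj.hom ≫ g) g (l t') = pullback.fst (D.obj.hom ≫ g) g z := by
      rw [← Scheme.Hom.comp_apply, pullback.lift_fst, Scheme.Hom.comp_apply, h2]
    refine ⟨l t', show pullback.fst (D.obj.hom ≫ g) g (l t') ∈ A by rw [hla]; exact hz, ?_⟩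
    have := congr($(e02.symm.trans e12) t')
    rw [Scheme.Hom.comp_apply, Scheme.Hom.comp_apply, h1] at this
    exact this
  · let Δ : D.obj.left ⟶ relObj D := pullback.lift (𝟙 _) D.obj.hom (Category.id_comp _)
    refine ⟨Δ y, ?_, ?_⟩
    · show pullback.fst (D.obj.hom ≫ g) g (Δ y) ∈ A
      rw [← Scheme.Hom.comp_apply, pullback.lift_fst]
      exact hy
    · have e := φ_eq_act D D.obj.hom D.obj.hom rfl ⟨𝟙 _, Category.id_comp _⟩ Δ (pullback.lift_fst _ _ _) (pullback.lift_snd _ _ _)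
      rw [D.φ_self] at e
      rw [← Scheme.Hom.comp_apply, ← e]
      rfl

/-- The restriction of a descent datum to a stable open. -/
noncomputable def restrictDD (W : D.obj.left.Opens) (hW : Stable D W) : Desc.SchDD g where
  obj := Over.mk (W.ι ≫ D.obj.hom)
  φ T x₀ x₁ h :=
    { toFun := fun z => ⟨IsOpenImmersion.lift W.ι (D.φ x₀ x₁ h ⟨z.1 ≫ W.ι, (Category.assoc _ _ _).trans z.2⟩).1 (by
          rintro _ ⟨t, rfl⟩
          exact (Scheme.Opens.range_ι W).ge (hW T x₀ x₁ h _ t (z.1 t).2)), by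
        show _ ≫ W.ι ≫ D.obj.hom = x₁
        rw [IsOpenImmersion.lift_fac_assoc]
        exact (D.φ x₀ x₁ h _).2⟩
      invFun := fun z => ⟨IsOpenImmersion.lift W.ι (D.φ x₁ x₀ h.symm ⟨z.1 ≫ W.ι, (Category.assoc _ _ _).trans z.2⟩).1 (by
          rintro _ ⟨t, rfl⟩
          exact (Scheme.Opens.range_ι W).ge (hW T x₁ x₀ h.symm _ t (z.1 t).2)), by
        show _ ≫ W.ι ≫ D.obj.hom = x₀
        rw [IsOpenImmersion.lift_fac_assoc]
        exact (D.φ x₁ x₀ h.symm _).2⟩
      left_inv := fun z => by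
        apply Subtype.ext
        dsimp only
        rw [← cancel_mono W.ι]
        simp [IsOpenImmersion.lift_fac, D.φ_comp, D.φ_self]
      right_inv := fun z => by
        apply Subtype.ext
        dsimp only
        rw [← cancel_mono W.ι]
        simp [IsOpenImmersion.lift_fac, D.φ_comp, D.φ_self] }
  φ_natural T T' t x₀ x₁ h h' v v' hv := by
    dsimp only [Equiv.coe_fn_mk]
    refine (cancel_mono W.ι).1 ?_
    refine (IsOpenImmersion.lift_fac _ _ _).trans ?_
    refine Eq.trans ?_ ((Category.assoc _ _ _).trans (congrArg (t ≫ ·) (IsOpenImmersion.lift_fac _ _ _))).symm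
    exact D.φ_natural t x₀ x₁ h h' _ _ ((congrArg (· ≫ W.ι) hv).trans (Category.assoc _ _ _))
  φ_self T x v := by
    apply Subtype.ext
    dsimp only [Equiv.coe_fn_mk]
    rw [← cancel_mono W.ι, IsOpenImmersion.lift_fac, D.φ_self]
  φ_comp T x₀ x₁ x₂ h₀₁ h₁₂ v := by
    apply Subtype.ext
    dsimp only [Equiv.coe_fn_mk]
    rw [← cancel_mono W.ι]
    simp [IsOpenImmersion.lift_fac, D.φ_comp]

/-- The inclusion of a restricted descent datum. -/
noncomputable def restrictHom (W : D.obj.left.Opens) (hW : Stable D W) : restrictDD D W hW ⟶ D :=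
  ⟨Over.homMk W.ι rfl, fun T x₀ x₁ h v w hw => by
    have : w = ⟨v.1 ≫ W.ι, (Category.assoc _ _ _).trans v.2⟩ := Subtype.ext hw
    subst this
    exact (IsOpenImmersion.lift_fac _ _ _).symm⟩

variable [IsFinite g] [LocallyOfFinitePresentation g]

theorem exists_idx_of_finite (x : D.obj.left)
    (h : ∃ U : D.obj.left.Opens, IsAffineOpen U ∧
      ∀ z : relObj D, pullback.fst (D.obj.hom ≫ g) g z = x → act D z ∈ U) :
    ∃ W : Idx D, x ∈ W.1 := by
  obtain ⟨U, hU, hUx⟩ := h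
  let pr := pullback.fst (D.obj.hom ≫ g) g
  haveI : IsFinite pr := MorphismProperty.pullback_fst _ _ ‹_›
  obtain ⟨S₀, hS₀, hx₀, -⟩ := exists_isAffineOpen_mem_and_subset (x := g (D.obj.hom x)) (U := ⊤) trivial
  let O := U ⊓ D.obj.hom ⁻¹ᵁ (g ⁻¹ᵁ S₀)
  let W₁ : D.obj.left.Opens := ⟨(pr '' (act D ⁻¹' (O : Set D.obj.left))ᶜ)ᶜ,
    (pr.isClosedMap _ (O.2.preimage (act D).continuous).isClosed_compl).isOpen_compl⟩
  have hxW₁ : x ∈ W₁ := by
    rintro ⟨z, hz, hzx⟩
    refine hz ⟨hUx z hzx, ?_⟩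
    show g (D.obj.hom (act D z)) ∈ S₀
    have : g (D.obj.hom (act D z)) = g (D.obj.hom (pr z)) := by
      simp only [← Scheme.Hom.comp_apply]
      rw [act_hom]
      exact congr($((rel_cond D).symm) z)
    rw [this, hzx]
    exact hx₀
  obtain ⟨A, hA, hxA, hAW⟩ := exists_isAffineOpen_mem_and_subset hxW₁
  obtain ⟨W, hst, hAle, hW⟩ := stable_image D A
  have hWO : W ≤ O := by
    intro y hy
    have hy' : y ∈ act D '' (pr ⁻¹' (A : Set D.obj.left)) := hW.subset hy
    obtain ⟨z, hz, rfl⟩ := hy'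
    by_contra hn
    exact hAW hz ⟨z, hn, rfl⟩
  have hWc : IsCompact (W : Set D.obj.left) := by
    rw [hW]
    exact (pr.isCompact_preimage hA.isCompact).image (act D).continuous
  haveI : CompactSpace W.toScheme := isCompact_iff_compactSpace.mp hWc
  haveI : IsAffine U.toScheme := hU
  haveI : W.toScheme.IsQuasiAffine := Scheme.IsQuasiAffine.of_isImmersion (D.obj.left.homOfLE (hWO.trans inf_le_left))
  let D₁ := restrictDD D W hst
  haveI : IsAffine (g ⁻¹ᵁ S₀).toScheme := hS₀.preimage g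
  let k : W.toScheme ⟶ (g ⁻¹ᵁ S₀).toScheme := IsOpenImmersion.lift (g ⁻¹ᵁ S₀).ι (W.ι ≫ D.obj.hom) (by
    rintro _ ⟨y, rfl⟩
    rw [Scheme.Opens.range_ι]
    exact (hWO y.2).2)
  have hk : k ≫ (g ⁻¹ᵁ S₀).ι = W.ι ≫ D.obj.hom := IsOpenImmersion.lift_fac _ _ _
  obtain ⟨W', hW'⟩ := exists_idx_of_pullback D₁ S₀ hS₀ ⟨x, hAle hxA⟩ hx₀ (fun {X'} _ c hc => by
    haveI : IsAffine X' := ‹_›
    let c₀ : X' ⟶ (g ⁻¹ᵁ S₀).toScheme := IsOpenImmersion.lift (g ⁻¹ᵁ S₀).ι c (by rwa [Scheme.Opens.range_ι])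
    have hc₀ : c₀ ≫ (g ⁻¹ᵁ S₀).ι = c := IsOpenImmersion.lift_fac _ _ _
    haveI : IsAffineHom c₀ := isAffineHom_of_isAffine _
    haveI : IsAffineHom (pullback.fst k c₀) := MorphismProperty.pullback_fst _ _ ‹_›
    haveI : (pullback k c₀).IsQuasiAffine := Scheme.IsQuasiAffine.of_isAffineHom (f := pullback.fst k c₀)
    have sq : IsPullback (pullback.fst k c₀) (pullback.snd k c₀) (W.ι ≫ D.obj.hom) c :=
      IsPullback.of_isLimit' ⟨by rw [← hk, ← hc₀, pullback.condition_assoc]⟩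
        (PullbackCone.IsLimit.mk _
          (fun q => pullback.lift q.fst q.snd (by
            rw [← cancel_mono (g ⁻¹ᵁ S₀).ι, Category.assoc, Category.assoc, hk, hc₀]; exact q.condition))
          (fun q => pullback.lift_fst _ _ _) (fun q => pullback.lift_snd _ _ _)
          (fun q m h1 h2 => pullback.hom_ext (h1.trans (pullback.lift_fst _ _ _).symm)
            (h2.trans (pullback.lift_snd _ _ _).symm)))
    exact isQuasiAffine_of_iso sq.isoPullback inferInstance)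
  let e₁ := W'.1
  obtain ⟨Q⟩ := W'.2.2
  let r : W'.1.toScheme ⟶ D.obj.left := W'.1.ι ≫ W.ι
  let W'' : D.obj.left.Opens := W.ι ''ᵁ W'.1
  let j : W''.toScheme ≅ W'.1.toScheme := IsOpenImmersion.isoOfRangeEq W''.ι r (by
    rw [Scheme.Opens.range_ι]
    show _ = Set.range (W'.1.ι ≫ W.ι)
    ext y
    constructor
    · rintro ⟨a, ha, rfl⟩
      exact ⟨⟨a, ha⟩, rfl⟩
    · rintro ⟨a, rfl⟩
      exact ⟨a.1, a.2, rfl⟩)
  have hj : j.hom ≫ W'.1.ι ≫ W.ι = W''.ι := IsOpenImmersion.isoOfRangeEq_hom_fac _ _ _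
  have lift' : ∀ {T : Scheme.{u}} (x₀ : T ⟶ X) (v : Desc.Lifts D.obj x₀), (∀ t, v.1 t ∈ W) →
      ∃ w : Desc.Lifts D₁.obj x₀, w.1 ≫ W.ι = v.1 := fun x₀ v hv => by
    let w := IsOpenImmersion.lift W.ι v.1 (by rintro _ ⟨t, rfl⟩; rw [Scheme.Opens.range_ι]; exact hv t)
    have hw : w ≫ W.ι = v.1 := IsOpenImmersion.lift_fac _ _ _
    exact ⟨⟨w, by
      show w ≫ W.ι ≫ D.obj.hom = x₀
      rw [reassoc_of% hw]
      exact v.2⟩, hw⟩
  refine ⟨⟨W'', fun T x₀ x₁ hx v t ht => ?_, ⟨⟨Q.U, Q.h, j.hom ≫ Q.π, ?_, fun {T} x₀ x₁ hx v z z' hz hz' => ?_⟩⟩⟩, ?_⟩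
  · obtain ⟨a, ha, hat⟩ := ht
    let O' := v.1 ⁻¹ᵁ W
    have htO : t ∈ O' := by show v.1 t ∈ W; rw [← hat]; exact a.2
    have hx' : (O'.ι ≫ x₀) ≫ g = (O'.ι ≫ x₁) ≫ g := by rw [Category.assoc, Category.assoc, hx]
    let v' : Desc.Lifts D.obj (O'.ι ≫ x₀) := ⟨O'.ι ≫ v.1, by rw [Category.assoc, v.2]⟩
    obtain ⟨w, hw⟩ := lift' _ v' (fun s => s.2)
    have h1 := (restrictHom D W hst).comm _ _ hx' w v' hw.symm
    have hwt : w.1 ⟨t, htO⟩ = a := W.ι.injective (by
      exact (congr($hw ⟨t, htO⟩)).trans hat.symm)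
    have := W'.2.1 _ _ _ hx' w ⟨t, htO⟩ (by rw [hwt]; exact ha)
    exact ⟨_, this, congr($(h1.symm.trans (D.φ_natural O'.ι x₀ x₁ hx hx' v v' rfl)) ⟨t, htO⟩)⟩
  · refine IsPullback.of_iso Q.isPullback j.symm (Iso.refl _) (Iso.refl _) (Iso.refl _) ?_ ?_ ?_ ?_
    · simp
    · show (W'.1.ι ≫ W.ι ≫ D.obj.hom) ≫ 𝟙 _ = j.inv ≫ W''.ι ≫ D.obj.hom
      rw [Category.comp_id, ← hj]
      simp only [Category.assoc, Iso.inv_hom_id_assoc]
    · simp
    · simp
  · obtain ⟨w, hw⟩ := lift' x₀ v (fun t => by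
      rw [← hz]
      obtain ⟨a, -, ha⟩ := (z t).2
      show (z t).1 ∈ W
      rw [← ha]
      exact a.2)
    have h1 := (restrictHom D W hst).comm x₀ x₁ hx w v hw.symm
    rw [← Category.assoc, ← Category.assoc]
    refine Q.inv x₀ x₁ hx w (z ≫ j.hom) (z' ≫ j.hom) ?_ ?_
    · rw [← cancel_mono W.ι]
      exact (by simp only [Category.assoc, hj]; exact hz.trans hw.symm)
    · rw [← cancel_mono W.ι]
      exact (by simp only [Category.assoc, hj]; exact hz'.trans h1)
  · exact ⟨⟨x, hAle hxA⟩, hW', rfl⟩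

theorem exists_iso_of_finite
    (h : ∀ x : D.obj.left, ∃ U : D.obj.left.Opens, IsAffineOpen U ∧
      ∀ z : relObj D, pullback.fst (D.obj.hom ≫ g) g z = x → act D z ∈ U) :
    ∃ U : Over S, Nonempty ((Desc.toDD g).obj U ≅ D) :=
  exists_iso D fun x => exists_idx_of_finite D x (h x)

omit [Flat g] [Surjective g] [QuasiCompact g] [IsFinite g] [LocallyOfFinitePresentation g] in
theorem base_act (z : relObj D) :
    g (D.obj.hom (act D z)) = g (D.obj.hom (pullback.fst (D.obj.hom ≫ g) g z)) := by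
  simp only [← Scheme.Hom.comp_apply]
  rw [act_hom]
  exact congr($((rel_cond D).symm) z)

omit [Flat g] [Surjective g] [QuasiCompact g] [LocallyOfFinitePresentation g] in
theorem finite_orbit (x : D.obj.left) : (act D '' (pullback.fst (D.obj.hom ≫ g) g ⁻¹' {x})).Finite := by
  haveI : IsFinite (pullback.fst (D.obj.hom ≫ g) g) := MorphismProperty.pullback_fst _ _ ‹_›
  exact (Scheme.Hom.finite_preimage_singleton _ x).image _

end Groth.Agent.StableDescent
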