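import Groth.Agent.StableDescent.FiniteCover
import Mathlib

/-!
# Orbits are bounded by the geometric fibres
-/

set_option autoImplicit false
set_option backward.isDefEq.respectTransparency false
set_option backward.isDefEq.respectTransparency.types false
set_option linter.style.haveILetI false
universe u
open CategoryTheory CategoryTheory.Limits AlgebraicGeometry

namespace Groth.Agent.StableDescent

variable {X S : Scheme.{u}} {g : X ⟶ S} [IsFinite g] (D : Desc.SchDD g)

theorem encard_orbit_le (d : ℕ) (hfib : ∀ (k : Type u) [Field k] [IsAlgClosed k] (y : Spec (CommRingCat.of k) ⟶ S),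
      Set.encard {x : Spec (CommRingCat.of k) ⟶ X | x ≫ g = y} ≤ d) (x : D.obj.left) :
    (act D '' (pullback.fst (D.obj.hom ≫ g) g ⁻¹' {x})).encard ≤ d := by
  refine (Set.encard_image_le _ _).trans ?_
  let pr := pullback.fst (D.obj.hom ≫ g) g
  let k := AlgebraicClosure (D.obj.left.residueField x)
  let ξ : Spec (CommRingCat.of k) ⟶ D.obj.left :=
    Spec.map (CommRingCat.ofHom (algebraMap (D.obj.left.residueField x) k)) ≫ D.obj.left.fromSpecResidueField x
  let pt : Spec (CommRingCat.of k) := IsLocalRing.closedPoint k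
  have hξ : ξ pt = x := by
    rw [Scheme.Hom.comp_apply]
    exact Scheme.fromSpecResidueField_apply _ _
  let A : Set (Spec (CommRingCat.of k) ⟶ X) := {x' | x' ≫ g = ξ ≫ D.obj.hom ≫ g}
  let Φ : A → ↥(pr ⁻¹' {x}) := fun a =>
    ⟨pullback.lift ξ a.1 a.2.symm pt, by
      show pr (pullback.lift ξ a.1 a.2.symm pt) = x
      rw [← Scheme.Hom.comp_apply, pullback.lift_fst, hξ]⟩
  have hsurj : Function.Surjective Φ := by
    rintro ⟨z, hz⟩
    obtain ⟨w, hw1, hw2⟩ := Scheme.Pullback.exists_preimage_pullback (f := ξ) (g := pr) pt z (hξ.trans hz.symm)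
    let f := pullback.fst ξ pr
    haveI : IsFinite pr := MorphismProperty.pullback_fst _ _ ‹_›
    haveI : IsFinite f := MorphismProperty.pullback_fst _ _ ‹_›
    haveI : IsAffine (pullback ξ pr) := isAffine_of_isAffineHom f
    let i := (pullback ξ pr).isoSpec
    obtain ⟨φ, hφ⟩ := Spec.map_surjective (i.inv ≫ f)
    have hfin : φ.hom.Finite := by
      have : IsFinite (Spec.map φ) := by rw [hφ]; infer_instance
      exact (IsFinite.SpecMap_iff φ).mp this
    let 𝔭 := (i.hom w).asIdeal
    let q : k →+* Γ(pullback ξ pr, ⊤) ⧸ 𝔭 := (Ideal.Quotient.mk 𝔭).comp φ.hom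
    have hint : q.IsIntegral :=
      ((RingHom.Finite.of_surjective _ Ideal.Quotient.mk_surjective).comp hfin).to_isIntegral
    have hq := IsAlgClosed.ringHom_bijective_of_isIntegral q hint
    let θ : Γ(pullback ξ pr, ⊤) ⟶ CommRingCat.of k :=
      CommRingCat.ofHom ((RingEquiv.ofBijective q hq).symm.toRingHom.comp (Ideal.Quotient.mk 𝔭))
    let s : Spec (CommRingCat.of k) ⟶ pullback ξ pr := Spec.map θ ≫ i.inv
    have hsf : s ≫ f = 𝟙 _ := by
      rw [Category.assoc, ← hφ, ← Spec.map_comp, ← Spec.map_id]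
      congr 1
      ext c
      exact (RingEquiv.ofBijective q hq).symm_apply_apply c
    have hsw : s pt = w := by
      apply i.hom.injective
      rw [← Scheme.Hom.comp_apply, Category.assoc, i.inv_hom_id, Category.comp_id]
      refine PrimeSpectrum.ext (Ideal.ext fun r => ?_)
      show θ.hom r ∈ IsLocalRing.maximalIdeal k ↔ r ∈ 𝔭
      rw [IsLocalRing.maximalIdeal_eq_bot, Ideal.mem_bot]
      show (RingEquiv.ofBijective q hq).symm (Ideal.Quotient.mk 𝔭 r) = 0 ↔ _
      rw [map_eq_zero_iff _ (RingEquiv.ofBijective q hq).symm.injective, Ideal.Quotient.eq_zero_iff_mem]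
    have hc : s ≫ pullback.snd ξ pr ≫ pr = ξ := by
      rw [← pullback.condition, reassoc_of% hsf]
    let x' := s ≫ pullback.snd ξ pr ≫ pullback.snd (D.obj.hom ≫ g) g
    have hx' : x' ≫ g = ξ ≫ D.obj.hom ≫ g := by
      simp only [x', Category.assoc]
      rw [← pullback.condition, reassoc_of% hc]
    refine ⟨⟨x', hx'⟩, Subtype.ext ?_⟩
    show pullback.lift ξ x' hx'.symm pt = z
    rw [show pullback.lift ξ x' hx'.symm = s ≫ pullback.snd ξ pr from pullback.hom_ext
      ((pullback.lift_fst _ _ _).trans ((Category.assoc _ _ _).trans hc).symm)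
      ((pullback.lift_snd _ _ _).trans (Category.assoc _ _ _).symm), Scheme.Hom.comp_apply, hsw, hw2]
  calc (pr ⁻¹' {x}).encard ≤ A.encard := ENat.card_le_card_of_injective (Function.injective_surjInv hsurj)
    _ ≤ d := hfib k _

end Groth.Agent.StableDescent
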