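import Groth.Agent.StableDescent.GlueFppf
import Groth.Agent.StableDescent.FiniteCover
import Groth.Agent.StableDescent.LqfQuasiAffine

/-!
# Descent of separated, locally quasi-finite schemes along fppf covers
-/

set_option autoImplicit false
set_option backward.isDefEq.respectTransparency false
set_option backward.isDefEq.respectTransparency.types false
set_option linter.style.haveILetI false
universe u
open CategoryTheory CategoryTheory.Limits AlgebraicGeometry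

namespace Groth.Agent.StableDescentFppf

theorem effective_lqf_affine {X S : Scheme.{u}} {g : X ⟶ S} [IsAffine X] [IsAffine S] [Flat g] [Surjective g]
    [LocallyOfFinitePresentation g] (D : Desc.SchDD g) [IsSeparated D.obj.hom] [LocallyQuasiFinite D.obj.hom]
    [LocallyOfFiniteType D.obj.hom] : ∃ U : Over S, Nonempty ((Desc.toDD g).obj U ≅ D) := by
  haveI : IsAffineHom g := isAffineHom_of_isAffine g
  refine StableDescent.exists_iso D fun x => ?_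
  obtain ⟨A, hA, hxA, -⟩ := exists_isAffineOpen_mem_and_subset (x := x) (U := ⊤) trivial
  obtain ⟨W, hst, hAle, hW⟩ := StableDescent.stable_image D A
  have hWc : IsCompact (W : Set D.obj.left) := by
    rw [hW]
    exact ((pullback.fst (D.obj.hom ≫ g) g).isCompact_preimage hA.isCompact).image (StableDescent.act D).continuous
  haveI : CompactSpace W.toScheme := isCompact_iff_compactSpace.mp hWc
  let D₁ := StableDescent.restrictDD D W hst
  haveI : IsSeparated D₁.obj.hom := inferInstanceAs (IsSeparated (W.ι ≫ D.obj.hom))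
  haveI : LocallyQuasiFinite D₁.obj.hom := inferInstanceAs (LocallyQuasiFinite (W.ι ≫ D.obj.hom))
  haveI : LocallyOfFiniteType D₁.obj.hom := inferInstanceAs (LocallyOfFiniteType (W.ι ≫ D.obj.hom))
  haveI : CompactSpace D₁.obj.left := inferInstanceAs (CompactSpace W.toScheme)
  haveI : QuasiCompact D₁.obj.hom := (quasiCompact_iff_compactSpace _).mpr inferInstance
  obtain ⟨U, ⟨e⟩⟩ := StableDescent.exists_iso D₁ fun v =>
    StableDescent.exists_idx_of_quasiAffine D₁ (StableDescent.isQuasiAffine_of_lqf D₁.obj.hom) v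
  let eo : D₁.obj ≅ ((Desc.toDD g).obj U).obj :=
    ⟨e.inv.hom, e.hom.hom, congrArg Desc.SchDD.Hom.hom e.inv_hom_id, congrArg Desc.SchDD.Hom.hom e.hom_inv_id⟩
  haveI : IsIso e.hom.hom.left := ((Over.forget _).mapIso eo).isIso_inv
  haveI : IsOpenImmersion (StableDescent.restrictHom D W hst).hom.left := inferInstanceAs (IsOpenImmersion W.ι)
  let k := e.hom ≫ StableDescent.restrictHom D W hst
  haveI : IsOpenImmersion k.hom.left :=
    inferInstanceAs (IsOpenImmersion (e.hom.hom.left ≫ (StableDescent.restrictHom D W hst).hom.left))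
  obtain ⟨W', hW'⟩ := StableDescent.exists_idx_of_hom D k
  obtain ⟨y, hy⟩ := e.hom.hom.left.surjective (⟨x, hAle hxA⟩ : W.toScheme)
  refine ⟨W', ?_⟩
  rw [hW']
  exact ⟨y, congrArg (StableDescent.restrictHom D W hst).hom.left hy⟩

variable {X S : Scheme.{u}} {p : X ⟶ S} (D : Desc.SchDD p)

theorem exists_quot_of_cover (S₀ : S.Opens) {X' : Scheme.{u}} (c : X' ⟶ X) (g₀ : X' ⟶ S₀.toScheme) [Flat g₀]
    [Surjective g₀] [QuasiCompact g₀] (hg₀ : g₀ ≫ S₀.ι = c ≫ p)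
    (hcp : ∀ {T : Scheme.{u}} (x₀ x₁ : T ⟶ X'), x₀ ≫ g₀ = x₁ ≫ g₀ → x₀ ≫ c ≫ p = x₁ ≫ c ≫ p)
    (heff : ∃ U : Over S₀.toScheme, Nonempty ((Desc.toDD g₀).obj U ≅
      StableDescent.changeBase (StableDescent.pullDD D c) g₀ hcp)) :
    Stable D (D.obj.hom ⁻¹ᵁ (p ⁻¹ᵁ S₀)) ∧ Nonempty (Quot D (D.obj.hom ⁻¹ᵁ (p ⁻¹ᵁ S₀))) := by
  obtain ⟨U₀, ⟨e⟩⟩ := heff
  refine ⟨fun T x₀ x₁ hx v t ht => ?_, ?_⟩
  · show p (D.obj.hom ((D.φ x₀ x₁ hx v).1 t)) ∈ S₀
    rw [← Scheme.Hom.comp_apply _ D.obj.hom, (D.φ x₀ x₁ hx v).2, ← Scheme.Hom.comp_apply, ← hx]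
    show (x₀ ≫ p) t ∈ S₀
    rw [← v.2]
    exact ht
  let D' := StableDescent.pullDD D c
  let D₀ := StableDescent.changeBase D' g₀ hcp
  let eo : D₀.obj ≅ ((Desc.toDD g₀).obj U₀).obj :=
    ⟨e.inv.hom, e.hom.hom, congrArg Desc.SchDD.Hom.hom e.inv_hom_id, congrArg Desc.SchDD.Hom.hom e.hom_inv_id⟩
  let V' := pullback D.obj.hom c
  let s : V' ⟶ X' := pullback.snd D.obj.hom c
  let F : V' ⟶ D.obj.left := pullback.fst D.obj.hom c
  let K : V' ⟶ pullback g₀ U₀.hom := eo.hom.left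
  haveI : IsIso K := ((Over.forget _).mapIso eo).isIso_hom
  have hK : K ≫ pullback.fst g₀ U₀.hom = s := Over.w eo.hom
  let U := U₀.left
  let h : U ⟶ S := U₀.hom ≫ S₀.ι
  let π' : V' ⟶ U := K ≫ pullback.snd g₀ U₀.hom
  have sq'' : IsPullback π' s U₀.hom g₀ := by
    refine IsPullback.of_iso (IsPullback.of_hasPullback g₀ U₀.hom).flip (asIso K).symm (Iso.refl _) (Iso.refl _)
      (Iso.refl _) ?_ ?_ ?_ ?_
    · simp [π', U]
    · show pullback.fst g₀ U₀.hom ≫ 𝟙 _ = (asIso K).inv ≫ s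
      rw [Category.comp_id, Iso.eq_inv_comp, asIso_hom, hK]
    · simp [U]
    · simp
  have inv₁ : ∀ {T : Scheme.{u}} (x₀ x₁ : T ⟶ X') (hx : x₀ ≫ c ≫ p = x₁ ≫ c ≫ p) (v : Desc.Lifts D'.obj x₀),
      v.1 ≫ π' = (D'.φ x₀ x₁ hx v).1 ≫ π' := by
    intro T x₀ x₁ hx v
    have hx₀ : x₀ ≫ g₀ = x₁ ≫ g₀ := by
      rw [← cancel_mono S₀.ι]
      exact (Category.assoc _ _ _).trans ((congrArg (x₀ ≫ ·) hg₀).trans (hx.trans
        ((congrArg (x₁ ≫ ·) hg₀.symm).trans (Category.assoc _ _ _).symm)))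
    let w : Desc.Lifts ((Desc.toDD g₀).obj U₀).obj x₀ :=
      ⟨v.1 ≫ K, (Category.assoc _ _ _).trans ((congrArg (v.1 ≫ ·) hK).trans v.2)⟩
    have h1 := e.inv.comm x₀ x₁ hx₀ v w rfl
    have h2 := congrArg (· ≫ pullback.snd g₀ U₀.hom) h1
    exact (Category.assoc _ _ _).symm.trans ((pullback.lift_snd _ _ _).symm.trans (h2.trans (Category.assoc _ _ _)))
  let σ : ∀ {T : Scheme.{u}} (a : T ⟶ D.obj.left) (y : T ⟶ X') (_ : (a ≫ D.obj.hom) ≫ p = (y ≫ c) ≫ p), T ⟶ V' :=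
    fun a y hh => pullback.lift (D.φ _ _ hh ⟨a, rfl⟩).1 y (D.φ _ _ hh ⟨a, rfl⟩).2
  have σ_nat : ∀ {T T' : Scheme.{u}} (t : T' ⟶ T) (a : T ⟶ D.obj.left) (y : T ⟶ X')
      (hh : (a ≫ D.obj.hom) ≫ p = (y ≫ c) ≫ p) (a' : T' ⟶ D.obj.left) (y' : T' ⟶ X')
      (hh' : (a' ≫ D.obj.hom) ≫ p = (y' ≫ c) ≫ p), t ≫ a = a' → t ≫ y = y' → t ≫ σ a y hh = σ a' y' hh' := by
    intro T T' t a y hh a' y' hh' ha hy
    subst ha hy
    apply pullback.hom_ext
    · rw [Category.assoc, pullback.lift_fst, pullback.lift_fst]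
      exact (RadDescent.φ_nat D t _ _ hh _ _ (Category.assoc _ _ _).symm (Category.assoc _ _ _).symm hh'
        ⟨a, rfl⟩ ⟨t ≫ a, rfl⟩ rfl).symm
    · rw [Category.assoc, pullback.lift_snd, pullback.lift_snd]
  have φ_σ : ∀ {T : Scheme.{u}} (x₀ x₁ : T ⟶ X) (hx : x₀ ≫ p = x₁ ≫ p) (v : Desc.Lifts D.obj x₀) (y : T ⟶ X')
      (hh : (v.1 ≫ D.obj.hom) ≫ p = (y ≫ c) ≫ p)
      (hh' : ((D.φ x₀ x₁ hx v).1 ≫ D.obj.hom) ≫ p = (y ≫ c) ≫ p),
      σ (D.φ x₀ x₁ hx v).1 y hh' = σ v.1 y hh := by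
    intro T x₀ x₁ hx v y hh hh'
    obtain ⟨a, rfl⟩ := v
    let v₁ := D.φ (a ≫ D.obj.hom) x₁ hx ⟨a, rfl⟩
    have : ∀ (x₁' : T ⟶ X) (e1 : x₁' = x₁) (h₁ : x₁' ≫ p = (y ≫ c) ≫ p) (z : Desc.Lifts D.obj x₁'), z.1 = v₁.1 →
        (D.φ x₁' (y ≫ c) h₁ z).1 = (D.φ (a ≫ D.obj.hom) (y ≫ c) hh ⟨a, rfl⟩).1 := by
      intro x₁' e1 h₁ z hz
      subst e1
      have : z = v₁ := Subtype.ext hz
      subst this
      rw [D.φ_comp]
    apply pullback.hom_ext
    · rw [pullback.lift_fst, pullback.lift_fst]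
      exact this _ v₁.2 hh' ⟨v₁.1, rfl⟩ rfl
    · rw [pullback.lift_snd, pullback.lift_snd]
  have σ_indep : ∀ {T : Scheme.{u}} (a : T ⟶ D.obj.left) (y y' : T ⟶ X')
      (hh : (a ≫ D.obj.hom) ≫ p = (y ≫ c) ≫ p) (hh' : (a ≫ D.obj.hom) ≫ p = (y' ≫ c) ≫ p),
      σ a y hh ≫ π' = σ a y' hh' ≫ π' := by
    intro T a y y' hh hh'
    have hy : y ≫ c ≫ p = y' ≫ c ≫ p := by
      simpa only [Category.assoc] using hh.symm.trans hh'
    refine (inv₁ y y' hy ⟨σ a y hh, pullback.lift_snd _ _ _⟩).trans (congrArg (· ≫ π') ?_)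
    apply pullback.hom_ext
    · refine (pullback.lift_fst _ _ _).trans ?_
      have : ∀ (z : Desc.Lifts D.obj (y ≫ c)), z.1 = (D.φ _ _ hh ⟨a, rfl⟩).1 →
          (D.φ _ _ (StableDescent.compat c hy) z).1 = (D.φ _ _ hh' ⟨a, rfl⟩).1 := by
        intro z hz
        have : z = D.φ _ _ hh ⟨a, rfl⟩ := Subtype.ext hz
        subst this
        rw [D.φ_comp]
      exact (this _ (pullback.lift_fst _ _ _)).trans (pullback.lift_fst _ _ _).symm
    · exact (pullback.lift_snd _ _ _).trans (pullback.lift_snd _ _ _).symm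
  let W := D.obj.hom ⁻¹ᵁ (p ⁻¹ᵁ S₀)
  let k₀ : W.toScheme ⟶ S₀.toScheme := IsOpenImmersion.lift S₀.ι ((W.ι ≫ D.obj.hom) ≫ p) (by
    rintro _ ⟨y, rfl⟩
    rw [Scheme.Opens.range_ι]
    exact y.2)
  have hk₀ : k₀ ≫ S₀.ι = (W.ι ≫ D.obj.hom) ≫ p := IsOpenImmersion.lift_fac _ _ _
  have hP : ∀ {T : Scheme.{u}} (z : T ⟶ W.toScheme) (y : T ⟶ X'), z ≫ k₀ = y ≫ g₀ →
      ((z ≫ W.ι) ≫ D.obj.hom) ≫ p = (y ≫ c) ≫ p := by
    intro T z y e
    have := congrArg (· ≫ S₀.ι) e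
    simpa only [Category.assoc, hk₀, hg₀] using this
  let r := pullback.fst k₀ g₀
  haveI : Flat r := MorphismProperty.pullback_fst _ _ ‹_›
  haveI : Surjective r := MorphismProperty.pullback_fst _ _ ‹_›
  haveI : QuasiCompact r := MorphismProperty.pullback_fst _ _ ‹_›
  let π₂ := σ (r ≫ W.ι) (pullback.snd k₀ g₀) (hP r _ pullback.condition) ≫ π'
  have hcond : ∀ {Z : Scheme.{u}} (a b : Z ⟶ pullback k₀ g₀), a ≫ r = b ≫ r → a ≫ π₂ = b ≫ π₂ := by
    intro Z a b eab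
    have ha : (((a ≫ r) ≫ W.ι) ≫ D.obj.hom) ≫ p = ((a ≫ pullback.snd k₀ g₀) ≫ c) ≫ p :=
      hP _ _ (by rw [Category.assoc, Category.assoc, pullback.condition])
    have hb : (((a ≫ r) ≫ W.ι) ≫ D.obj.hom) ≫ p = ((b ≫ pullback.snd k₀ g₀) ≫ c) ≫ p :=
      hP _ _ (by rw [eab, Category.assoc, Category.assoc, pullback.condition])
    show a ≫ σ _ _ _ ≫ π' = b ≫ σ _ _ _ ≫ π'
    refine (Category.assoc _ _ _).symm.trans (Eq.trans ?_ (Category.assoc _ _ _))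
    rw [σ_nat a _ _ _ ((a ≫ r) ≫ W.ι) _ ha (Category.assoc _ _ _).symm rfl,
      σ_nat b _ _ _ ((a ≫ r) ≫ W.ι) _ hb (by rw [eab, Category.assoc]) rfl]
    exact σ_indep _ _ _ _ _
  let π : W.toScheme ⟶ U := EffectiveEpi.desc r π₂ hcond
  have hπ : r ≫ π = π₂ := EffectiveEpi.fac r π₂ hcond
  have π_spec : ∀ {T : Scheme.{u}} (z : T ⟶ W.toScheme) (y : T ⟶ X') (e : z ≫ k₀ = y ≫ g₀),
      z ≫ π = σ (z ≫ W.ι) y (hP z y e) ≫ π' := by
    intro T z y e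
    calc z ≫ π = (pullback.lift z y e ≫ r) ≫ π := by rw [pullback.lift_fst]
      _ = (pullback.lift z y e ≫ σ (r ≫ W.ι) _ (hP r _ pullback.condition)) ≫ π' := by
        rw [Category.assoc, hπ, Category.assoc]
      _ = _ := by rw [σ_nat _ _ _ _ (z ≫ W.ι) y (hP z y e) (pullback.lift_fst_assoc _ _ _ _) (pullback.lift_snd _ _ _)]
  have hσs : ∀ {T : Scheme.{u}} (a : T ⟶ D.obj.left) (y : T ⟶ X') (hh : (a ≫ D.obj.hom) ≫ p = (y ≫ c) ≫ p),
      σ a y hh ≫ s = y := fun a y hh => pullback.lift_snd _ _ _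
  have hw : π ≫ h = (W.ι ≫ D.obj.hom) ≫ p := by
    rw [← cancel_epi r, reassoc_of% hπ, ← hk₀, ← Category.assoc r, (pullback.condition : r ≫ k₀ = _)]
    show (σ (r ≫ W.ι) _ (hP r _ pullback.condition) ≫ π') ≫ U₀.hom ≫ S₀.ι = _
    rw [Category.assoc, ← Category.assoc π', sq''.w, Category.assoc, ← Category.assoc (σ _ _ _), hσs, ← Category.assoc]
  have huniq : ∀ {T : Scheme.{u}} (m m' : T ⟶ W.toScheme), m ≫ π = m' ≫ π →
      (m ≫ W.ι) ≫ D.obj.hom = (m' ≫ W.ι) ≫ D.obj.hom → m = m' := by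
    intro T m m' e1 e2
    have ek : m' ≫ k₀ = m ≫ k₀ := by
      rw [← cancel_mono S₀.ι, Category.assoc, Category.assoc, hk₀]
      simpa only [Category.assoc] using congrArg (· ≫ p) e2.symm
    let q := pullback.fst (m ≫ k₀) g₀
    let y := pullback.snd (m ≫ k₀) g₀
    haveI : Flat q := MorphismProperty.pullback_fst _ _ ‹_›
    haveI : Surjective q := MorphismProperty.pullback_fst _ _ ‹_›
    haveI : QuasiCompact q := MorphismProperty.pullback_fst _ _ ‹_›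
    rw [← cancel_epi q, ← cancel_mono W.ι]
    have c1 : (q ≫ m) ≫ k₀ = y ≫ g₀ := (Category.assoc _ _ _).trans pullback.condition
    have c2 : (q ≫ m') ≫ k₀ = y ≫ g₀ := by rw [Category.assoc, ek]; exact pullback.condition
    have eσ : σ ((q ≫ m) ≫ W.ι) y (hP _ _ c1) = σ ((q ≫ m') ≫ W.ι) y (hP _ _ c2) := by
      apply sq''.hom_ext
      · rw [← π_spec _ y c1, ← π_spec _ y c2, Category.assoc, Category.assoc, e1]
      · rw [hσs, hσs]
    have eF := congrArg (· ≫ F) eσ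
    simp only [σ, F, pullback.lift_fst] at eF
    have hcast : ∀ (x x' : pullback (m ≫ k₀) g₀ ⟶ X) (_ : x = x') (hx : x ≫ p = (y ≫ c) ≫ p)
        (hx' : x' ≫ p = (y ≫ c) ≫ p) (v : Desc.Lifts D.obj x) (v' : Desc.Lifts D.obj x'),
        (D.φ x (y ≫ c) hx v).1 = (D.φ x' (y ≫ c) hx' v').1 → v.1 = v'.1 := by
      intro x x' exx hx hx' v v' hv
      subst exx
      exact congrArg Subtype.val ((D.φ x (y ≫ c) hx).injective (Subtype.ext hv))
    exact hcast _ _ (by simpa only [Category.assoc] using congrArg (q ≫ ·) e2) (hP _ _ c1) (hP _ _ c2)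
      ⟨(q ≫ m) ≫ W.ι, rfl⟩ ⟨(q ≫ m') ≫ W.ι, rfl⟩ eF
  have hex : ∀ {T : Scheme.{u}} (u : T ⟶ U) (x : T ⟶ X), u ≫ h = x ≫ p →
      ∃ m : T ⟶ W.toScheme, m ≫ π = u ∧ m ≫ W.ι ≫ D.obj.hom = x := by
    intro T u x hux
    let k := u ≫ U₀.hom
    let q := pullback.fst k g₀
    let y := pullback.snd k g₀
    haveI : Flat q := MorphismProperty.pullback_fst _ _ ‹_›
    haveI : Surjective q := MorphismProperty.pullback_fst _ _ ‹_›
    haveI : QuasiCompact q := MorphismProperty.pullback_fst _ _ ‹_›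
    let v' := sq''.lift (q ≫ u) y ((Category.assoc _ _ _).trans pullback.condition)
    have hv's : v' ≫ s = y := sq''.lift_snd _ _ _
    have hv'π : v' ≫ π' = q ≫ u := sq''.lift_fst _ _ _
    let vF : Desc.Lifts D.obj (y ≫ c) := ⟨v' ≫ F, by rw [Category.assoc, pullback.condition, ← Category.assoc, hv's]⟩
    have hqx : (y ≫ c) ≫ p = (q ≫ x) ≫ p := by
      rw [Category.assoc, Category.assoc, ← hg₀, ← reassoc_of% (pullback.condition : q ≫ k = y ≫ g₀), ← hux]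
      simp only [k, h, Category.assoc]
      rfl
    let L := D.φ (y ≫ c) (q ≫ x) hqx vF
    have hL : ∀ {Z : Scheme.{u}} (a b : Z ⟶ pullback k g₀), a ≫ q = b ≫ q → a ≫ L.1 = b ≫ L.1 := by
      intro Z a b eab
      have hxa : ((a ≫ y) ≫ c) ≫ p = (a ≫ q ≫ x) ≫ p := by
        simpa only [Category.assoc] using congrArg (a ≫ ·) hqx
      have hxb : ((b ≫ y) ≫ c) ≫ p = (a ≫ q ≫ x) ≫ p := by
        rw [reassoc_of% eab]
        simpa only [Category.assoc] using congrArg (b ≫ ·) hqx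
      let va : Desc.Lifts D.obj ((a ≫ y) ≫ c) := ⟨a ≫ vF.1, by rw [Category.assoc, vF.2, ← Category.assoc]⟩
      let vb : Desc.Lifts D.obj ((b ≫ y) ≫ c) := ⟨b ≫ vF.1, by rw [Category.assoc, vF.2, ← Category.assoc]⟩
      have ea := RadDescent.φ_nat D a (y ≫ c) (q ≫ x) hqx _ _ (Category.assoc _ _ _).symm rfl hxa vF va rfl
      have eb := RadDescent.φ_nat D b (y ≫ c) (q ≫ x) hqx _ (a ≫ q ≫ x) (Category.assoc _ _ _).symm
        (by rw [reassoc_of% eab]) hxb vF vb rfl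
      have hy : (a ≫ y) ≫ c ≫ p = (b ≫ y) ≫ c ≫ p := by
        simpa only [Category.assoc] using hxa.trans hxb.symm
      let wa : Desc.Lifts D'.obj (a ≫ y) := ⟨a ≫ v', (Category.assoc _ _ _).trans (congrArg (a ≫ ·) hv's)⟩
      have hwb : (D'.φ (a ≫ y) (b ≫ y) hy wa).1 = b ≫ v' := by
        apply sq''.hom_ext
        · rw [← inv₁ _ _ hy wa, Category.assoc, Category.assoc, hv'π, reassoc_of% eab]
        · rw [Category.assoc, hv's]
          exact (D'.φ (a ≫ y) (b ≫ y) hy wa).2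
      have hab : D.φ _ _ (hxa.trans hxb.symm) va = vb := Subtype.ext (by
        have := congrArg (· ≫ F) hwb
        refine Eq.trans ?_ (this.trans (Category.assoc _ _ _))
        refine Eq.trans ?_ (pullback.lift_fst _ _ _).symm
        exact congrArg (fun z => (D.φ ((a ≫ y) ≫ c) ((b ≫ y) ≫ c) (hxa.trans hxb.symm) z).1)
          (Subtype.ext (Category.assoc _ _ _).symm))
      rw [← ea, ← eb, ← hab, D.φ_comp]
    let M : T ⟶ D.obj.left := EffectiveEpi.desc q L.1 hL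
    have hM : q ≫ M = L.1 := EffectiveEpi.fac q L.1 hL
    have hMx : M ≫ D.obj.hom = x := by rw [← cancel_epi q, reassoc_of% hM, L.2]
    have hMW : Set.range M ⊆ Set.range W.ι := by
      rintro _ ⟨t, rfl⟩
      rw [Scheme.Opens.range_ι]
      show ((M ≫ D.obj.hom) ≫ p) t ∈ S₀
      rw [hMx, ← hux]
      exact (U₀.hom (u t)).2
    let m := IsOpenImmersion.lift W.ι M hMW
    have hm : m ≫ W.ι = M := IsOpenImmersion.lift_fac _ _ hMW
    refine ⟨m, ?_, by rw [reassoc_of% hm, hMx]⟩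
    rw [← cancel_epi q]
    have c1 : (q ≫ m) ≫ k₀ = y ≫ g₀ := by
      rw [← cancel_mono S₀.ι]
      simp only [Category.assoc, hk₀, reassoc_of% hm, reassoc_of% hMx, hg₀]
      exact (Category.assoc _ _ _).symm.trans (hqx.symm.trans (Category.assoc _ _ _))
    rw [← Category.assoc, π_spec _ y c1]
    refine (congrArg (· ≫ π') ?_).trans hv'π
    apply pullback.hom_ext
    · refine (pullback.lift_fst _ _ _).trans ?_
      have : ∀ (x' : pullback k g₀ ⟶ X) (_ : x' = q ≫ x) (h₁ : x' ≫ p = (y ≫ c) ≫ p) (z : Desc.Lifts D.obj x'),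
          z.1 = L.1 → (D.φ x' (y ≫ c) h₁ z).1 = vF.1 := by
        intro x' exx h₁ z hz
        subst exx
        have : z = L := Subtype.ext hz
        subst this
        rw [D.φ_comp, D.φ_self]
      exact this _ (by simp only [Category.assoc, reassoc_of% hm, hMx]) _ ⟨(q ≫ m) ≫ W.ι, rfl⟩
        ((Category.assoc _ _ _).trans ((congrArg (q ≫ ·) hm).trans hM))
    · exact (pullback.lift_snd _ _ _).trans hv's.symm
  refine ⟨⟨U, h, π, IsPullback.of_isLimit' ⟨hw⟩ (PullbackCone.IsLimit.mk _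
      (fun q => (hex q.fst q.snd q.condition).choose) (fun q => (hex q.fst q.snd q.condition).choose_spec.1)
      (fun q => (hex q.fst q.snd q.condition).choose_spec.2)
      (fun q m h1 h2 => huniq m _ (h1.trans (hex q.fst q.snd q.condition).choose_spec.1.symm)
        ((Category.assoc _ _ _).trans (h2.trans ((hex q.fst q.snd q.condition).choose_spec.2.symm.trans
          (Category.assoc _ _ _).symm))))),
    fun {T} x₀ x₁ hx v z z' hz hz' => ?_⟩⟩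
  have ek : z' ≫ k₀ = z ≫ k₀ := by
    rw [← cancel_mono S₀.ι, Category.assoc, Category.assoc, hk₀]
    have hz0 : (z ≫ W.ι) ≫ D.obj.hom = x₀ := (congrArg (· ≫ D.obj.hom) hz).trans v.2
    have hz1 : (z' ≫ W.ι) ≫ D.obj.hom = x₁ := (congrArg (· ≫ D.obj.hom) hz').trans (D.φ x₀ x₁ hx v).2
    simpa only [Category.assoc] using (congrArg (· ≫ p) hz1).trans (hx.symm.trans (congrArg (· ≫ p) hz0).symm)
  let q := pullback.fst (z ≫ k₀) g₀
  let y := pullback.snd (z ≫ k₀) g₀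
  haveI : Flat q := MorphismProperty.pullback_fst _ _ ‹_›
  haveI : Surjective q := MorphismProperty.pullback_fst _ _ ‹_›
  haveI : QuasiCompact q := MorphismProperty.pullback_fst _ _ ‹_›
  rw [← cancel_epi q, ← Category.assoc, ← Category.assoc]
  have c1 : (q ≫ z) ≫ k₀ = y ≫ g₀ := (Category.assoc _ _ _).trans pullback.condition
  have c2 : (q ≫ z') ≫ k₀ = y ≫ g₀ := by rw [Category.assoc, ek]; exact pullback.condition
  rw [π_spec _ y c1, π_spec _ y c2]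
  have hx' : (q ≫ x₀) ≫ p = (q ≫ x₁) ≫ p := by rw [Category.assoc, Category.assoc, hx]
  let qv : Desc.Lifts D.obj (q ≫ x₀) := ⟨q ≫ v.1, by rw [Category.assoc, v.2]⟩
  have hqφ := D.φ_natural q x₀ x₁ hx hx' v qv rfl
  have congr_σ : ∀ (a a' : pullback (z ≫ k₀) g₀ ⟶ D.obj.left) (h₁ : (a ≫ D.obj.hom) ≫ p = (y ≫ c) ≫ p)
      (h₂ : (a' ≫ D.obj.hom) ≫ p = (y ≫ c) ≫ p), a = a' → σ a y h₁ = σ a' y h₂ := by
    intro a a' h₁ h₂ eaa
    subst eaa
    rfl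
  have e0 : (q ≫ z) ≫ W.ι = qv.1 := (Category.assoc _ _ _).trans (congrArg (q ≫ ·) hz)
  have e1 : (q ≫ z') ≫ W.ι = (D.φ _ _ hx' qv).1 :=
    ((Category.assoc _ _ _).trans (congrArg (q ≫ ·) hz')).trans hqφ.symm
  have g0 : (qv.1 ≫ D.obj.hom) ≫ p = (y ≫ c) ≫ p := e0 ▸ hP _ _ c1
  have g1 : ((D.φ _ _ hx' qv).1 ≫ D.obj.hom) ≫ p = (y ≫ c) ≫ p := e1 ▸ hP _ _ c2
  rw [congr_σ _ _ (hP _ _ c1) g0 e0, congr_σ _ _ (hP _ _ c2) g1 e1, φ_σ _ _ hx' qv y g0 g1]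

theorem exists_iso_lqf [Flat p] [Surjective p] [LocallyOfFinitePresentation p] [IsSeparated D.obj.hom]
    [LocallyQuasiFinite D.obj.hom] [LocallyOfFiniteType D.obj.hom] :
    ∃ U : Over S, Nonempty ((Desc.toDD p).obj U ≅ D) := by
  refine exists_iso D fun x => ?_
  obtain ⟨S₀, hS₀, hx₀, -⟩ := exists_isAffineOpen_mem_and_subset (x := p (D.obj.hom x)) (U := ⊤) trivial
  haveI : IsAffine S₀.toScheme := hS₀
  haveI : Flat (p ∣_ S₀) := IsZariskiLocalAtTarget.restrict (P := @Flat) ‹_› S₀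
  haveI : Surjective (p ∣_ S₀) := IsZariskiLocalAtTarget.restrict (P := @Surjective) ‹_› S₀
  haveI : LocallyOfFinitePresentation (p ∣_ S₀) :=
    IsZariskiLocalAtTarget.restrict (P := @LocallyOfFinitePresentation) ‹_› S₀
  let f := p ∣_ S₀
  obtain ⟨V, hV, eV⟩ := f.isOpenMap.exists_opens_image_eq_of_prespectralSpace f.continuous
    (by simp [Set.range_eq_univ.mpr f.surjective]) isOpen_univ isCompact_univ
  let V₀ : (p ⁻¹ᵁ S₀).toScheme.Opens := V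
  haveI : CompactSpace V₀.toScheme := isCompact_iff_compactSpace.mp hV
  let 𝒰 := V₀.toScheme.affineCover.finiteSubcover
  haveI : ∀ i, IsAffine (𝒰.X i) := fun i => inferInstance
  let c₁ : (∐ 𝒰.X) ⟶ V₀.toScheme := Limits.Sigma.desc 𝒰.f
  haveI : Flat c₁ := IsZariskiLocalAtSource.of_openCover (P := @Flat) (sigmaOpenCover 𝒰.X) fun i => by
    show Flat (Limits.Sigma.ι 𝒰.X i ≫ Limits.Sigma.desc 𝒰.f)
    rw [Limits.Sigma.ι_desc]
    infer_instance
  haveI : LocallyOfFinitePresentation c₁ :=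
    IsZariskiLocalAtSource.of_openCover (P := @LocallyOfFinitePresentation) (sigmaOpenCover 𝒰.X) fun i => by
    show LocallyOfFinitePresentation (Limits.Sigma.ι 𝒰.X i ≫ Limits.Sigma.desc 𝒰.f)
    rw [Limits.Sigma.ι_desc]
    infer_instance
  let g₀ : (∐ 𝒰.X) ⟶ S₀.toScheme := c₁ ≫ V₀.ι ≫ f
  haveI : Flat g₀ := inferInstanceAs (Flat (c₁ ≫ V₀.ι ≫ f))
  haveI : LocallyOfFinitePresentation g₀ := inferInstanceAs (LocallyOfFinitePresentation (c₁ ≫ V₀.ι ≫ f))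
  haveI : Surjective g₀ := ⟨fun y => by
    obtain ⟨w, hw, hwy⟩ := eV.ge (Set.mem_univ y)
    obtain ⟨i, z, hz⟩ := 𝒰.exists_eq (⟨w, hw⟩ : V₀.toScheme)
    refine ⟨Limits.Sigma.ι 𝒰.X i z, ?_⟩
    show (V₀.ι ≫ f) (c₁ (Limits.Sigma.ι 𝒰.X i z)) = y
    rw [show c₁ (Limits.Sigma.ι 𝒰.X i z) = ⟨w, hw⟩ from (congr($(Limits.Sigma.ι_desc 𝒰.f i) z)).trans hz]
    exact hwy⟩
  haveI : IsAffineHom g₀ := isAffineHom_of_isAffine g₀
  let c : (∐ 𝒰.X) ⟶ X := c₁ ≫ V₀.ι ≫ (p ⁻¹ᵁ S₀).ι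
  have hg₀ : g₀ ≫ S₀.ι = c ≫ p := by
    show (c₁ ≫ V₀.ι ≫ (p ∣_ S₀)) ≫ S₀.ι = (c₁ ≫ V₀.ι ≫ (p ⁻¹ᵁ S₀).ι) ≫ p
    simp only [Category.assoc, morphismRestrict_ι]
  have hcp : ∀ {T : Scheme.{u}} (x₀ x₁ : T ⟶ ∐ 𝒰.X), x₀ ≫ g₀ = x₁ ≫ g₀ → x₀ ≫ c ≫ p = x₁ ≫ c ≫ p :=
    fun x₀ x₁ h => (congrArg (x₀ ≫ ·) hg₀.symm).trans ((Category.assoc _ _ _).symm.trans
      ((congrArg (· ≫ S₀.ι) h).trans ((Category.assoc _ _ _).trans (congrArg (x₁ ≫ ·) hg₀))))
  let D₀ := StableDescent.changeBase (StableDescent.pullDD D c) g₀ hcp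
  haveI : IsSeparated D₀.obj.hom := MorphismProperty.pullback_snd (P := @IsSeparated) D.obj.hom c ‹_›
  haveI : LocallyQuasiFinite D₀.obj.hom := MorphismProperty.pullback_snd (P := @LocallyQuasiFinite) D.obj.hom c ‹_›
  haveI : LocallyOfFiniteType D₀.obj.hom :=
    MorphismProperty.pullback_snd (P := @LocallyOfFiniteType) D.obj.hom c ‹_›
  obtain ⟨hst, hq⟩ := exists_quot_of_cover D S₀ c g₀ hg₀ hcp (effective_lqf_affine D₀)
  exact ⟨⟨_, hst, hq⟩, hx₀⟩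

end Groth.Agent.StableDescentFppf
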