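import Groth.Agent.StableDescent.GlueFpqc
import Groth.Agent.StableDescent.FppfLocal
import Groth.Agent.DescFamFF.EssSurj

/-!
# Effectivity for fpqc families from effectivity along affine faithfully flat morphisms
-/

set_option autoImplicit false
set_option backward.isDefEq.respectTransparency false
set_option backward.isDefEq.respectTransparency.types false
set_option linter.style.haveILetI false
universe u
open CategoryTheory CategoryTheory.Limits AlgebraicGeometry

namespace Groth.Agent.StableDescentFpqc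

variable (P : MorphismProperty Scheme.{u}) [P.IsStableUnderBaseChange]

theorem isEffective_of_affine
    (h2 : ∀ (m : ℕ) (Y V : Fin m → Scheme.{u}) (q : ∀ j, Y j ⟶ V j), (∀ j, P (q j)) → P (Limits.Sigma.map q))
    (h3 : ∀ (X S : Scheme.{u}) (p : X ⟶ S), IsAffine X → IsAffine S → Flat p → Surjective p →
      ∀ D : Desc.SchDD p, P D.obj.hom → ∃ U : Over S, Nonempty ((Desc.toDD p).obj U ≅ D))
    {ι : Type u} {S : Scheme.{u}} {U : ι → Scheme.{u}} (u : ∀ i, U i ⟶ S)
    (hu : Presieve.ofArrows U u ∈ Scheme.fpqcPrecoverage S) (D : Desc.SchDDFam u) (hD : ∀ i, P (D.obj i).hom) :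
    D.IsEffective := by
  let X := ∐ U
  let p : X ⟶ S := Limits.Sigma.desc u
  have hpι : ∀ i, Limits.Sigma.ι U i ≫ p = u i := fun i => Limits.Sigma.ι_desc u i
  have hflat : ∀ i, Flat (u i) := fun i =>
    (Scheme.ofArrows_mem_precoverage_iff (P := @Flat) (f := u)).mp hu.2 |>.2 i
  haveI hqcf : QuasiCompactCover (⟨ι, U, u⟩ : PreZeroHypercover.{u} S) :=
    Scheme.presieve₀_mem_qcPrecoverage_iff.mp hu.1
  haveI : IsFpqc p := by
    have hp : Flat p := IsZariskiLocalAtSource.of_openCover (P := @Flat) (sigmaOpenCover U) fun i => by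
      show Flat (Limits.Sigma.ι U i ≫ p)
      rw [hpι]
      exact hflat i
    have hs : Surjective p := ⟨fun y => by
      obtain ⟨i, hi⟩ := (Scheme.ofArrows_mem_precoverage_iff (P := @Flat) (f := u)).mp hu.2 |>.1 y
      obtain ⟨z, hz⟩ := hi
      exact ⟨Limits.Sigma.ι U i z, (congr($(hpι i) z)).trans hz⟩⟩
    refine ⟨hp, hs, ?_, ?_⟩
    · rw [← PreZeroHypercover.presieve₀_singleton.{u, u + 1, u}, Scheme.presieve₀_mem_qcPrecoverage_iff]
      exact QuasiCompactCover.of_hom (𝒱 := (⟨ι, U, u⟩ : PreZeroHypercover.{u} S))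
        { s₀ := fun _ => PUnit.unit, h₀ := fun i => Limits.Sigma.ι U i, w₀ := hpι }
    · have e : Presieve.ofArrows (fun _ : PUnit.{u + 1} => X) (fun _ => p) = Presieve.singleton p :=
        Presieve.ofArrows_pUnit p
      exact e ▸ (Scheme.ofArrows_mem_precoverage_iff (P := @Flat)).mpr
        ⟨fun y => ⟨PUnit.unit, hs.surj y⟩, fun _ => hp⟩
  -- the single descent datum
  have hcov : ∀ j : PUnit.{u + 1}, Presieve.ofArrows (fun i : {i : ι // PUnit.unit = j} => U i.1)
      (fun i => Limits.Sigma.ι U i.1 ≫ eqToHom (congrArg (fun _ : PUnit.{u + 1} => X) i.2)) ∈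
        Scheme.zariskiPrecoverage X := fun j => by
    refine (Scheme.ofArrows_mem_precoverage_iff _).mpr ⟨fun z => ?_, fun i => by simp only [eqToHom_refl, Category.comp_id]; infer_instance⟩
    obtain ⟨i, y, hy⟩ := (sigmaOpenCover U).exists_eq z
    exact ⟨⟨i, rfl⟩, y, (congr($(Category.comp_id (Limits.Sigma.ι U i)) y)).trans hy⟩
  haveI := DescFamFF.isEquivalence_zariski (v := fun _ : PUnit.{u + 1} => p) (α := fun _ : ι => PUnit.unit)
    (g := fun i => Limits.Sigma.ι U i) (u := u) hpι hcov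
  let G := Desc.pullDDFam (f := fun _ : PUnit.{u + 1} => p) (f' := u) (α := fun _ : ι => PUnit.unit) (p := 𝟙 S)
      (p' := fun i => Limits.Sigma.ι U i) (fun i => (hpι i).trans (Category.comp_id (u i)).symm)
  obtain ⟨D₁, ⟨η⟩⟩ : ∃ D₁, Nonempty (G.obj D₁ ≅ D) := ⟨G.objPreimage D, ⟨G.objObjPreimageIso D⟩⟩
  let E := (Desc.SchDDFam.toSchDD p).obj D₁
  have hPi : ∀ i, P (pullback.snd E.obj.hom (Limits.Sigma.ι U i)) := fun i => by
    let a : (G.obj D₁).obj i ≅ D.obj i :=
      ⟨η.hom.hom i, η.inv.hom i, congrFun (congrArg Desc.SchDDFam.Hom.hom η.hom_inv_id) i,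
        congrFun (congrArg Desc.SchDDFam.Hom.hom η.inv_hom_id) i⟩
    have ha : ((G.obj D₁).obj i).hom = a.hom.left ≫ (D.obj i).hom := (Over.w a.hom).symm
    show P ((G.obj D₁).obj i).hom
    haveI : IsIso a.hom.left := ((Over.forget _).mapIso a).isIso_hom
    exact ha ▸ (P.cancel_left_of_respectsIso a.hom.left _).mpr (hD i)
  obtain ⟨U', ⟨e⟩⟩ : ∃ U' : Over S, Nonempty ((Desc.toDD p).obj U' ≅ E) := by
    refine exists_iso E fun x => ?_
    obtain ⟨S₀, hS₀, hx₀, -⟩ := exists_isAffineOpen_mem_and_subset (x := p (E.obj.hom x)) (U := ⊤) trivial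
    obtain ⟨n, a, V, hV, heq⟩ := QuasiCompactCover.exists_isAffineOpen_of_isCompact
      (⟨ι, U, u⟩ : PreZeroHypercover.{u} S) hS₀.isCompact
    haveI : ∀ k, IsAffine (V k).toScheme := hV
    haveI : IsAffine S₀.toScheme := hS₀
    let m : ∀ k, (V k).toScheme ⟶ X := fun k => (V k).ι ≫ Limits.Sigma.ι U (a k)
    let c : (∐ fun k => (V k).toScheme) ⟶ X := Limits.Sigma.desc m
    have hmp : ∀ k, m k ≫ p = (V k).ι ≫ u (a k) := fun k => (Category.assoc _ _ _).trans (congrArg _ (hpι (a k)))
    let gk : ∀ k, (V k).toScheme ⟶ S₀.toScheme := fun k => IsOpenImmersion.lift S₀.ι ((V k).ι ≫ u (a k)) (by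
      rintro _ ⟨y, rfl⟩
      rw [Scheme.Opens.range_ι]
      exact heq.le (Set.mem_iUnion.mpr ⟨k, y.1, y.2, rfl⟩))
    have hgk : ∀ k, gk k ≫ S₀.ι = (V k).ι ≫ u (a k) := fun k => IsOpenImmersion.lift_fac _ _ _
    let g₀ : (∐ fun k => (V k).toScheme) ⟶ S₀.toScheme := Limits.Sigma.desc gk
    have hg₀ : g₀ ≫ S₀.ι = c ≫ p := Limits.Sigma.hom_ext _ _ fun k => by
      rw [Limits.Sigma.ι_desc_assoc, Limits.Sigma.ι_desc_assoc, hgk, hmp]
    haveI : Flat g₀ := IsZariskiLocalAtSource.of_openCover (P := @Flat) (sigmaOpenCover fun k => (V k).toScheme) fun k => by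
      show Flat (Limits.Sigma.ι (fun k => (V k).toScheme) k ≫ Limits.Sigma.desc gk)
      rw [Limits.Sigma.ι_desc]
      haveI := hflat (a k)
      refine MorphismProperty.of_postcomp (W := @Flat) (W' := MorphismProperty.monomorphisms Scheme) _ S₀.ι
        (inferInstanceAs (Mono S₀.ι)) ?_
      rw [hgk]
      infer_instance
    haveI : Surjective g₀ := ⟨fun y => by
      obtain ⟨k, z, hz, hzy⟩ := Set.mem_iUnion.mp (heq.ge y.2)
      refine ⟨Limits.Sigma.ι (fun k => (V k).toScheme) k ⟨z, hz⟩, S₀.ι.injective ?_⟩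
      rw [← Scheme.Hom.comp_apply, ← Scheme.Hom.comp_apply, Limits.Sigma.ι_desc_assoc, hgk]
      exact hzy⟩
    haveI : IsAffineHom g₀ := isAffineHom_of_isAffine g₀
    have hcp : ∀ {T : Scheme.{u}} (x₀ x₁ : T ⟶ ∐ fun k => (V k).toScheme), x₀ ≫ g₀ = x₁ ≫ g₀ →
        x₀ ≫ c ≫ p = x₁ ≫ c ≫ p := fun x₀ x₁ h => (congrArg (x₀ ≫ ·) hg₀.symm).trans
      ((Category.assoc _ _ _).symm.trans ((congrArg (· ≫ S₀.ι) h).trans
        ((Category.assoc _ _ _).trans (congrArg (x₁ ≫ ·) hg₀))))
    have hPc : P (pullback.snd E.obj.hom c) := by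
      let s := pullback.snd E.obj.hom c
      let Y : Fin n → Scheme.{u} := fun k => pullback s (Limits.Sigma.ι (fun k => (V k).toScheme) k)
      haveI : IsIso (Limits.Sigma.desc fun k : Fin n =>
          pullback.fst s (Limits.Sigma.ι (fun k => (V k).toScheme) k)) := by
        refine FinitaryPreExtensive.isIso_sigmaDesc_fst _ s ?_
        rw [show Limits.Sigma.desc (Limits.Sigma.ι fun k => (V k).toScheme) = 𝟙 _ from
          Limits.Sigma.hom_ext _ _ fun k => by simp]
        infer_instance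
      rw [← P.cancel_left_of_respectsIso (Limits.Sigma.desc fun k : Fin n =>
          pullback.fst s (Limits.Sigma.ι (fun k => (V k).toScheme) k))]
      have hP' := h2 n Y (fun k => (V k).toScheme) (fun k => pullback.snd s _) fun k => by
        have sq : IsPullback (pullback.fst s (Limits.Sigma.ι (fun k => (V k).toScheme) k) ≫ pullback.fst E.obj.hom c)
            (pullback.snd s (Limits.Sigma.ι (fun k => (V k).toScheme) k)) E.obj.hom (m k) := by
          have := (IsPullback.of_hasPullback s (Limits.Sigma.ι (fun k => (V k).toScheme) k)).paste_horiz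
            (IsPullback.of_hasPullback E.obj.hom c)
          rwa [Limits.Sigma.ι_desc] at this
        let l := pullback.lift (f := E.obj.hom) (g := Limits.Sigma.ι U (a k))
          (pullback.fst s (Limits.Sigma.ι (fun k => (V k).toScheme) k) ≫ pullback.fst E.obj.hom c)
          (pullback.snd s (Limits.Sigma.ι (fun k => (V k).toScheme) k) ≫ (V k).ι) (by rw [sq.w, Category.assoc])
        have sq' : IsPullback l (pullback.snd s (Limits.Sigma.ι (fun k => (V k).toScheme) k))
            (pullback.snd E.obj.hom (Limits.Sigma.ι U (a k))) (V k).ι := by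
          refine IsPullback.of_right ?_ (pullback.lift_snd _ _ _) (IsPullback.of_hasPullback _ _)
          rw [pullback.lift_fst]
          exact sq
        exact MorphismProperty.of_isPullback (P := P) sq' (hPi (a k))
      convert hP' using 1
      exact Limits.Sigma.hom_ext _ _ fun k => by
        rw [Limits.Sigma.ι_desc_assoc, Limits.Sigma.ι_map, pullback.condition]
    obtain ⟨hst, ⟨q⟩⟩ := StableDescentFppf.exists_quot_of_cover E S₀ c g₀ hg₀ hcp
      (h3 _ _ g₀ inferInstance inferInstance inferInstance inferInstance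
        (StableDescent.changeBase (StableDescent.pullDD E c) g₀ hcp) hPc)
    exact ⟨⟨E.obj.hom ⁻¹ᵁ (p ⁻¹ᵁ S₀), hst, ⟨⟨q.U, q.h, q.π, q.isPullback, q.inv⟩⟩⟩, hx₀⟩
  -- transport back to the family
  let e₁ : (Desc.toDDFam (fun _ : PUnit.{u + 1} => p)).obj U' ≅ D₁ :=
    (Desc.SchDDFam.oneEquiv p).fullyFaithfulFunctor.preimageIso e
  let K : ∀ i, ((Desc.toDDFam u).obj U').obj i ⟶ ((G.obj ((Desc.toDDFam fun _ : PUnit.{u + 1} => p).obj U'))).obj i :=
    fun i => Over.homMk (pullback.lift
      (pullback.lift (pullback.fst (u i) U'.hom ≫ Limits.Sigma.ι U i) (pullback.snd (u i) U'.hom)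
        (by rw [Category.assoc, hpι]; exact pullback.condition))
      (pullback.fst (u i) U'.hom) (pullback.lift_fst _ _ _)) (pullback.lift_snd _ _ _)
  let L : ∀ i, ((G.obj ((Desc.toDDFam fun _ : PUnit.{u + 1} => p).obj U'))).obj i ⟶ ((Desc.toDDFam u).obj U').obj i :=
    fun i => Over.homMk (pullback.lift
      (pullback.snd (pullback.fst p U'.hom) (Limits.Sigma.ι U i))
      (pullback.fst (pullback.fst p U'.hom) (Limits.Sigma.ι U i) ≫ pullback.snd p U'.hom) (by
        rw [Category.assoc, ← pullback.condition, ← hpι, ← Category.assoc, ← Category.assoc,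
          pullback.condition])) (pullback.lift_fst _ _ _)
  let I : (Desc.toDDFam u).obj U' ≅ G.obj ((Desc.toDDFam fun _ : PUnit.{u + 1} => p).obj U') :=
    { hom := ⟨K, fun T i j x₀ x₁ hx v w hw => by
        apply pullback.hom_ext
        · apply pullback.hom_ext
          · simp [G, K, Desc.toDDFam, Desc.canonicalDDFam, Desc.pullDDFam, Desc.pullDDFamObj, Desc.liftsPullbackEquiv]
          · simp [G, K, hw, Desc.toDDFam, Desc.canonicalDDFam, Desc.pullDDFam, Desc.pullDDFamObj, Desc.liftsPullbackEquiv]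
        · simp [G, K, Desc.toDDFam, Desc.canonicalDDFam, Desc.pullDDFam, Desc.pullDDFamObj, Desc.liftsPullbackEquiv]⟩
      inv := ⟨L, fun T i j x₀ x₁ hx v w hw => by
        apply pullback.hom_ext
        · simp [G, L, Desc.toDDFam, Desc.canonicalDDFam, Desc.pullDDFam, Desc.pullDDFamObj, Desc.liftsPullbackEquiv]
        · simp [G, L, hw, Desc.toDDFam, Desc.canonicalDDFam, Desc.pullDDFam, Desc.pullDDFamObj, Desc.liftsPullbackEquiv]⟩
      hom_inv_id := Desc.SchDDFam.hom_ext (funext fun i => Over.OverMorphism.ext (by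
        apply pullback.hom_ext <;> simp [K, L, Desc.toDDFam, Desc.canonicalDDFam]))
      inv_hom_id := Desc.SchDDFam.hom_ext (funext fun i => Over.OverMorphism.ext (by
        apply pullback.hom_ext
        · apply pullback.hom_ext <;>
            simp [G, K, L, Desc.toDDFam, Desc.canonicalDDFam, Desc.pullDDFam, Desc.pullDDFamObj, pullback.condition]
        · simp [G, K, L, Desc.toDDFam, Desc.canonicalDDFam, Desc.pullDDFam, Desc.pullDDFamObj])) }
  exact ⟨U', ⟨I ≪≫ G.mapIso e₁ ≪≫ η⟩⟩

end Groth.Agent.StableDescentFpqc
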