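import Mathlib

/-!
# Single fpqc coverings
-/

set_option autoImplicit false
set_option backward.isDefEq.respectTransparency false
set_option backward.isDefEq.respectTransparency.types false
set_option linter.style.haveILetI false
universe u
open CategoryTheory CategoryTheory.Limits AlgebraicGeometry

namespace Groth.Agent.StableDescentFpqc

/-- A morphism covering the target for the fpqc topology. -/
class IsFpqc {X S : Scheme.{u}} (p : X ⟶ S) : Prop where
  flat : Flat p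
  surj : Surjective p
  mem : Presieve.singleton p ∈ Scheme.fpqcPrecoverage S

variable {X S : Scheme.{u}}

instance (priority := low) (p : X ⟶ S) [h : IsFpqc p] : Flat p := h.flat

instance (priority := low) (p : X ⟶ S) [h : IsFpqc p] : Surjective p := h.surj

instance effectiveEpi (p : X ⟶ S) [h : IsFpqc p] : EffectiveEpi p := by
  rw [← Sieve.effectiveEpimorphic_singleton, Presieve.EffectiveEpimorphic.iff_forall_isSheafFor_yoneda]
  intro Z
  exact (GrothendieckTopology.Subcanonical.isSheaf_of_isRepresentable (J := Scheme.fpqcTopology) _).isSheafFor _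
    (Precoverage.generate_mem_toGrothendieck h.mem)

theorem IsFpqc.baseChange {P Y : Scheme.{u}} {fst : P ⟶ X} {snd : P ⟶ Y} {f : X ⟶ S} {k : Y ⟶ S}
    (sq : IsPullback fst snd f k) (hf : IsFpqc f) : IsFpqc snd := by
  refine ⟨MorphismProperty.of_isPullback (P := @Flat) sq hf.flat,
    MorphismProperty.of_isPullback (P := @Surjective) sq hf.surj, ?_⟩
  have e1 : Presieve.ofArrows (fun _ : PUnit.{1} => X) (fun _ => f) = Presieve.singleton f :=
    Presieve.ofArrows_pUnit f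
  have e2 : Presieve.ofArrows (fun _ : PUnit.{1} => P) (fun _ => snd) = Presieve.singleton snd :=
    Presieve.ofArrows_pUnit snd
  exact e2 ▸ Scheme.fpqcPrecoverage.mem_coverings_of_isPullback (fun _ : PUnit.{1} => f) (e1 ▸ hf.mem) k _
    (fun _ : PUnit.{1} => fst) fun _ => sq.flip

theorem exists_affine_cover (p : X ⟶ S) [h : IsFpqc p] {O : S.Opens} (hO : IsAffineOpen O) :
    ∃ (T : Scheme.{u}) (_ : IsAffine T) (t : T ⟶ (p ⁻¹ᵁ O).toScheme), Flat (t ≫ p ∣_ O) ∧ Surjective (t ≫ p ∣_ O) := by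
  have hc : QuasiCompactCover (PreZeroHypercover.singleton.{u} p) := by
    rw [← Scheme.presieve₀_mem_qcPrecoverage_iff, PreZeroHypercover.presieve₀_singleton]
    exact h.mem.1
  obtain ⟨n, a, V, hV, heq⟩ := @QuasiCompactCover.exists_isAffineOpen_of_isCompact S
    (PreZeroHypercover.singleton.{u} p) hc O hO.isCompact
  haveI : ∀ k, IsAffine (V k).toScheme := hV
  have hle : ∀ k, Set.range (V k).ι ⊆ Set.range (p ⁻¹ᵁ O).ι := fun k => by
    rw [Scheme.Opens.range_ι, Scheme.Opens.range_ι]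
    intro y hy
    exact heq.le (Set.mem_iUnion.mpr ⟨k, y, hy, rfl⟩)
  let m : ∀ k, (V k).toScheme ⟶ (p ⁻¹ᵁ O).toScheme := fun k => IsOpenImmersion.lift (p ⁻¹ᵁ O).ι (V k).ι (hle k)
  have hm : ∀ k, m k ≫ (p ⁻¹ᵁ O).ι = (V k).ι := fun k => IsOpenImmersion.lift_fac _ _ (hle k)
  have : ∀ k, IsOpenImmersion (m k) := fun k =>
    have : IsOpenImmersion (m k ≫ (p ⁻¹ᵁ O).ι) := by rw [hm]; infer_instance
    IsOpenImmersion.of_comp _ (p ⁻¹ᵁ O).ι
  haveI : Flat (p ∣_ O) := IsZariskiLocalAtTarget.restrict (P := @Flat) h.flat O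
  refine ⟨∐ fun k => (V k).toScheme, inferInstance, Limits.Sigma.desc m, ?_, ⟨fun y => ?_⟩⟩
  · haveI : Flat (Limits.Sigma.desc m) :=
      IsZariskiLocalAtSource.of_openCover (P := @Flat) (sigmaOpenCover fun k => (V k).toScheme) fun i => by
      show Flat (Limits.Sigma.ι (fun k => (V k).toScheme) i ≫ Limits.Sigma.desc m)
      rw [Limits.Sigma.ι_desc]
      infer_instance
    infer_instance
  · obtain ⟨k, z, hz, hzy⟩ := Set.mem_iUnion.mp (heq.ge y.2)
    refine ⟨Limits.Sigma.ι (fun k => (V k).toScheme) k ⟨z, hz⟩, O.ι.injective ?_⟩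
    rw [← Scheme.Hom.comp_apply, ← Scheme.Hom.comp_apply, Category.assoc, morphismRestrict_ι,
      Limits.Sigma.ι_desc_assoc, reassoc_of% hm]
    exact hzy

theorem isOpen_preimage_iff (p : X ⟶ S) [IsFpqc p] {s : Set S} : IsOpen (p ⁻¹' s) ↔ IsOpen s := by
  refine ⟨fun hs => ?_, fun hs => hs.preimage p.continuous⟩
  rw [isOpen_iff_mem_nhds]
  intro y hy
  obtain ⟨O, hO, hyO, -⟩ := exists_isAffineOpen_mem_and_subset (x := y) (U := ⊤) trivial
  obtain ⟨T, _, t, hfl, hsur⟩ := exists_affine_cover p hO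
  haveI : IsAffine O.toScheme := hO
  haveI := hfl
  haveI := hsur
  have h1 : IsOpen (O.ι ⁻¹' s) := by
    rw [← (Flat.isQuotientMap_of_surjective (t ≫ p ∣_ O)).isOpen_preimage]
    convert hs.preimage (t ≫ (p ⁻¹ᵁ O).ι).continuous using 1
    ext z
    show O.ι ((t ≫ p ∣_ O) z) ∈ s ↔ p ((t ≫ (p ⁻¹ᵁ O).ι) z) ∈ s
    rw [← Scheme.Hom.comp_apply, ← Scheme.Hom.comp_apply, Category.assoc, Category.assoc, morphismRestrict_ι]
  exact Filter.mem_of_superset ((O.ι.isOpenEmbedding.isOpenMap _ h1).mem_nhds ⟨⟨y, hyO⟩, hy, rfl⟩)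
    (by rintro _ ⟨z, hz, rfl⟩; exact hz)

theorem isOpenImmersion_of_fpqc {A B C : Scheme.{u}} {a : A ⟶ X} {q : A ⟶ B} {p : X ⟶ C} {f : B ⟶ C}
    (sq : IsPullback a q p f) [IsFpqc p] [IsOpenImmersion a] : IsOpenImmersion f := by
  refine IsZariskiLocalAtTarget.of_iSup_eq_top (P := @IsOpenImmersion)
    (fun O : C.affineOpens => (O : C.Opens)) (iSup_affineOpens_eq_top C) fun O => ?_
  obtain ⟨T, _, t, hfl, hsur⟩ := exists_affine_cover p O.2
  haveI : IsAffine (O : C.Opens).toScheme := O.2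
  let q' := t ≫ p ∣_ (O : C.Opens)
  haveI : Flat q' := hfl
  haveI : Surjective q' := hsur
  have B₁ := (IsPullback.of_hasPullback (f ∣_ (O : C.Opens)) q').paste_horiz
    (isPullback_morphismRestrict f (O : C.Opens)).flip
  have hq : q' ≫ (O : C.Opens).ι = (t ≫ (p ⁻¹ᵁ (O : C.Opens)).ι) ≫ p := by
    rw [Category.assoc, Category.assoc, morphismRestrict_ι]
  rw [hq] at B₁
  let l := sq.lift (pullback.snd (f ∣_ (O : C.Opens)) q' ≫ t ≫ (p ⁻¹ᵁ (O : C.Opens)).ι)
    (pullback.fst (f ∣_ (O : C.Opens)) q' ≫ (f ⁻¹ᵁ (O : C.Opens)).ι)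
    (by simpa only [Category.assoc] using B₁.w.symm)
  have s1 : IsPullback l (pullback.snd (f ∣_ (O : C.Opens)) q') a (t ≫ (p ⁻¹ᵁ (O : C.Opens)).ι) := by
    refine IsPullback.of_right ?_ (sq.lift_fst _ _ _) sq.flip
    rw [sq.lift_snd]
    exact B₁
  exact MorphismProperty.of_isPullback_of_descendsAlong (P := @IsOpenImmersion)
    (Q := @Surjective ⊓ @Flat ⊓ @QuasiCompact) (IsPullback.of_hasPullback (f ∣_ (O : C.Opens)) q').flip
    ⟨⟨hsur, hfl⟩, inferInstance⟩ (MorphismProperty.of_isPullback (P := @IsOpenImmersion) s1 inferInstance)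

end Groth.Agent.StableDescentFpqc
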